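import Cfsg.Agent.CosetEnum.Engine

/-! Reflection words of five generators of `J₂` and a tree on the 315 lines (generated). -/

set_option autoImplicit false
set_option maxRecDepth 10000

namespace CfsgLib.J2Model.IcoData

/-- The lines whose reflections multiply to each generator. -/
def letters : List (List Nat) := [[0], [251], [1], [49, 43, 19, 1], [21, 20, 4, 3]]

def tree0 : List (Nat × Nat × Nat) := [
  (308, 0, 1), (305, 1, 0), (306, 1, 2), (266, 2, 1), (307, 2, 2), (290, 3, 3),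
  (251, 4, 0), (252, 4, 2), (236, 5, 1), (291, 5, 3), (292, 6, 2), (294, 6, 4),
  (265, 7, 2), (250, 8, 1), (278, 8, 3), (249, 9, 0), (190, 9, 3), (289, 10, 2),
  (287, 10, 4), (5, 11, 1), (288, 11, 4), (1, 13, 1), (271, 13, 3), (235, 14, 0),
  (108, 14, 3), (272, 15, 2), (280, 15, 4), (2, 16, 1), (183, 16, 3), (182, 17, 2),
  (160, 17, 4), (59, 18, 1), (293, 18, 4), (8, 20, 0), (9, 20, 4), (302, 21, 3),
  (23, 22, 3), (277, 23, 2), (269, 23, 4), (121, 24, 3), (122, 25, 2), (149, 25, 4),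
  (225, 26, 1), (270, 26, 4), (22, 28, 3), (191, 29, 2), (213, 29, 4), (73, 30, 1),
  (228, 30, 3), (216, 30, 4)]

def tree1 : List (Nat × Nat × Nat) := [
  (74, 32, 0), (56, 32, 4), (311, 33, 3), (107, 34, 1), (4, 34, 4), (72, 35, 3),
  (312, 36, 2), (21, 37, 4), (279, 38, 4), (144, 40, 4), (227, 41, 1), (143, 41, 4),
  (224, 43, 4), (255, 44, 3), (24, 45, 4), (157, 46, 4), (60, 48, 0), (14, 48, 3),
  (46, 48, 4), (226, 49, 2), (229, 49, 4), (93, 50, 3), (45, 51, 4), (58, 52, 3),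
  (301, 53, 2), (150, 54, 4), (61, 55, 3), (62, 56, 2), (29, 57, 1), (262, 59, 3),
  (230, 61, 4), (209, 62, 3), (131, 63, 3), (261, 64, 2), (104, 66, 3), (15, 67, 1),
  (55, 67, 4), (17, 68, 4), (50, 69, 3), (223, 70, 4), (130, 71, 3), (103, 72, 2),
  (43, 73, 3), (44, 74, 2), (90, 75, 1), (164, 76, 3), (71, 77, 2), (39, 78, 1),
  (18, 78, 3), (40, 79, 0)]

def tree2 : List (Nat × Nat × Nat) := [
  (256, 80, 2), (195, 81, 3), (169, 82, 2), (129, 83, 2), (145, 84, 1), (94, 85, 2),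
  (12, 86, 4), (51, 87, 3), (70, 88, 3), (52, 89, 2), (178, 90, 3), (132, 91, 2),
  (210, 92, 1), (57, 93, 2), (76, 94, 1), (48, 94, 3), (75, 95, 0), (204, 96, 2),
  (142, 97, 1), (11, 97, 3), (30, 98, 0), (78, 98, 3), (13, 99, 4), (155, 100, 1),
  (110, 101, 1), (171, 102, 2), (242, 103, 1), (147, 104, 1), (246, 104, 3), (148, 105, 0),
  (120, 106, 1), (63, 107, 3), (49, 108, 2), (64, 109, 2), (170, 110, 1), (47, 110, 3),
  (202, 111, 2), (196, 112, 1), (239, 112, 3), (163, 113, 0), (115, 114, 1), (53, 114, 3),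
  (89, 115, 0), (36, 115, 3), (54, 116, 2), (65, 116, 4), (188, 117, 1), (152, 118, 1),
  (151, 119, 0), (231, 119, 3)]

def tree3 : List (Nat × Nat × Nat) := [
  (16, 120, 4), (136, 121, 1), (87, 121, 3), (88, 122, 2), (27, 122, 4), (218, 124, 0),
  (211, 124, 2), (119, 125, 0), (244, 126, 1), (245, 126, 3), (243, 127, 0), (146, 128, 0),
  (189, 128, 3), (240, 129, 2), (32, 130, 1), (109, 131, 0), (69, 132, 2), (303, 133, 1),
  (172, 134, 1), (3, 134, 3), (203, 135, 0), (192, 135, 3), (66, 136, 4), (113, 137, 1),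
  (177, 138, 0), (158, 138, 3), (238, 140, 1), (114, 141, 0), (124, 141, 3), (68, 142, 4),
  (97, 143, 1), (33, 143, 3), (34, 144, 2), (86, 144, 4), (314, 145, 1), (67, 145, 4),
  (185, 147, 0), (180, 147, 2), (141, 148, 0), (254, 149, 1), (222, 149, 3), (221, 150, 2),
  (234, 150, 4), (125, 152, 0), (126, 152, 2), (206, 152, 3), (77, 153, 2), (42, 153, 4),
  (35, 154, 3), (41, 154, 4)]

def tree4 : List (Nat × Nat × Nat) := [
  (162, 156, 2), (118, 157, 3), (84, 158, 1), (241, 159, 0), (165, 159, 3), (193, 161, 1),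
  (179, 162, 1), (184, 162, 3), (181, 163, 2), (174, 164, 1), (37, 165, 0), (38, 165, 2),
  (212, 166, 1), (309, 167, 1), (10, 167, 3), (310, 168, 0), (201, 169, 0), (91, 169, 3),
  (6, 170, 4), (186, 171, 1), (159, 172, 4), (116, 174, 0), (237, 175, 1), (215, 175, 3),
  (214, 176, 2), (247, 177, 0), (248, 177, 2), (253, 178, 1), (137, 178, 3), (138, 179, 2),
  (95, 179, 4), (100, 181, 0), (99, 181, 2), (117, 181, 3), (79, 182, 4), (300, 183, 1),
  (80, 183, 4), (299, 185, 0), (313, 185, 4), (7, 186, 3), (98, 189, 1), (263, 190, 0),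
  (264, 190, 2), (281, 190, 3), (232, 191, 2), (219, 191, 4), (168, 192, 3), (220, 192, 4),
  (135, 194, 2), (167, 194, 3)]

def tree5 : List (Nat × Nat × Nat) := [
  (139, 195, 3), (166, 196, 2), (200, 196, 4), (295, 197, 1), (28, 197, 4), (85, 199, 4),
  (82, 200, 3), (111, 201, 3), (112, 202, 2), (81, 203, 0), (208, 204, 3), (205, 205, 2),
  (194, 207, 0), (187, 207, 2), (198, 209, 1), (199, 210, 0), (31, 211, 2), (161, 213, 0),
  (156, 213, 2), (304, 214, 0), (297, 214, 3), (217, 217, 1), (106, 217, 3), (105, 218, 2),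
  (128, 218, 4), (101, 223, 3), (133, 225, 3), (96, 227, 3), (258, 228, 3), (123, 229, 2),
  (102, 229, 4), (140, 234, 4), (286, 239, 3), (268, 242, 3), (259, 243, 3), (267, 244, 2),
  (273, 244, 4), (233, 245, 4), (175, 247, 4), (154, 249, 3), (207, 250, 2), (173, 250, 4),
  (153, 251, 2), (285, 252, 1), (176, 252, 3), (284, 254, 4), (83, 255, 3), (283, 271, 2),
  (92, 273, 2), (134, 274, 3)]

def tree6 : List (Nat × Nat × Nat) := [
  (127, 277, 2), (260, 279, 2), (296, 283, 2), (282, 284, 2), (276, 284, 4), (257, 285, 2),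
  (275, 286, 3), (20, 291, 1), (197, 291, 3), (298, 294, 3), (25, 304, 1), (274, 304, 3),
  (26, 308, 3), (19, 311, 3)]

/-- Breadth-first order: line, position of the parent, generator. -/
def tree : List (Nat × Nat × Nat) := tree0 ++ tree1 ++ tree2 ++ tree3 ++ tree4 ++ tree5 ++ tree6

end CfsgLib.J2Model.IcoData
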