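import Cfsg.Agent.J2Model.Order
import Cfsg.Agent.J2Model.IcoData
import Cfsg.Agent.IcoLeech.Reflections
import Mathlib.GroupTheory.QuotientGroup.Basic

/-!
# The presented group maps onto the icosian reflection group modulo its centre
-/

set_option autoImplicit false
set_option maxRecDepth 100000

open Quaternion Cfsg Cfsg.Spor Cfsg.IcoLeech Cfsg.IcoLeech.Data

noncomputable section

namespace CfsgLib.J2Model

open CfsgLib.CosetEnum

/-- A reflection is left linear. -/
def qreflLin (r : Fin 3 → ℍ[ℝ]) : (Fin 3 → ℍ[ℝ]) →ₗ[ℍ[ℝ]] (Fin 3 → ℍ[ℝ]) where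
  toFun x := qrefl r x
  map_add' x y := by
    funext t
    simp only [qrefl, qip, Pi.add_apply, add_mul, Finset.sum_add_distrib, smul_add]
    abel
  map_smul' q x := by
    funext t
    simp only [qrefl, qip, Pi.smul_apply, smul_eq_mul, RingHom.id_apply, mul_assoc, mul_sub,
      ← Finset.mul_sum, mul_smul_comm, smul_mul_assoc]

/-- Being the restriction of a left linear map. -/
def HasLin (g : Equiv.Perm icoLeech) : Prop :=
  ∃ f : (Fin 3 → ℍ[ℝ]) →ₗ[ℍ[ℝ]] (Fin 3 → ℍ[ℝ]),
    ∀ x : icoLeech, ((g x : icoLeech) : Fin 3 → ℍ[ℝ]) = f x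

theorem reflection_sq {g : Equiv.Perm icoLeech} (hg : IsIcoReflection g) : g⁻¹ = g := by
  obtain ⟨r, h4, hr⟩ := hg
  refine inv_eq_of_mul_eq_one_right (Equiv.ext fun x => Subtype.ext ?_)
  rw [Equiv.Perm.mul_apply, hr, hr, qrefl_involutive h4]
  rfl

theorem hasLin_of_mem {g : Equiv.Perm icoLeech} (hg : g ∈ twoJ2) : HasLin g := by
  have h1 : ∀ g : Equiv.Perm icoLeech, IsIcoReflection g → HasLin g := fun g hg => by
    obtain ⟨r, -, hr⟩ := hg
    exact ⟨qreflLin r, hr⟩
  induction hg using Subgroup.closure_induction'' with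
  | mem g hg => exact h1 g hg
  | inv_mem g hg => rw [reflection_sq hg]; exact h1 g hg
  | one => exact ⟨LinearMap.id, fun x => rfl⟩
  | mul g h _ _ hg hh =>
    obtain ⟨f, hf⟩ := hg
    obtain ⟨f', hf'⟩ := hh
    exact ⟨f.comp f', fun x => by rw [Equiv.Perm.mul_apply, hf, hf']; rfl⟩

/-- The reflection in the line with a given index. -/
def refl (i : ℕ) : twoJ2 :=
  if h : i < 315 then ⟨lineRefl ⟨_, lineAt_mem h⟩, reflPerm_mem _ _⟩ else 1

/-- A product of reflections. -/
def elt (l : List ℕ) : twoJ2 := (l.map refl).prod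

/-- The image of a vector under a product of reflections, in coordinates. -/
def evalW (l : List ℕ) (v : V3) : V3 := l.foldr (fun i x => reflI (lineAt i) x) v

/-- The divisions in `evalW` are exact. -/
def okW : List ℕ → V3 → Bool
  | [], _ => true
  | i :: l, v => okW l v && (Nat.blt i 315 && Nat.beq (code (ip (evalW l v) (lineAt i))) 0)

theorem elt_toV : ∀ (l : List ℕ) (v : V3) (hv : toV v ∈ icoLeech), okW l v = true →
    (((elt l : twoJ2) : Equiv.Perm icoLeech) ⟨toV v, hv⟩ : Fin 3 → ℍ[ℝ]) = toV (evalW l v)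
  | [], v, hv, _ => rfl
  | i :: l, v, hv, h => by
    simp only [okW, Bool.and_eq_true, Nat.blt_eq, Nat.beq_eq] at h
    obtain ⟨h1, hi, hc⟩ := h
    have ih := elt_toV l v hv h1
    show ((((refl i * elt l : twoJ2) : Equiv.Perm icoLeech)) ⟨toV v, hv⟩ : Fin 3 → ℍ[ℝ]) = _
    rw [Subgroup.coe_mul, Equiv.Perm.mul_apply, refl, dif_pos hi]
    show qrefl (toV (lineAt i)) _ = toV (reflI (lineAt i) (evalW l v))
    rw [ih, toV_reflI hc]

theorem basis_inL : ∀ j : Fin 3, inL (basisV j) = true := by decide +kernel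

/-- A product of reflections fixing or negating the basis. -/
def centralB (l : List ℕ) : Bool :=
  [basisV 0, basisV 1, basisV 2].all (fun v => okW l v) &&
    ([basisV 0, basisV 1, basisV 2].all (fun v => decide (evalW l v = v)) ||
      [basisV 0, basisV 1, basisV 2].all (fun v => decide (evalW l v = (-v.1, -v.2.1, -v.2.2))))

theorem mem_center_of_centralB {l : List ℕ} (h : centralB l = true) :
    elt l ∈ Subgroup.center twoJ2 := by
  simp only [centralB, Bool.and_eq_true, Bool.or_eq_true, List.all_cons, List.all_nil,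
    decide_eq_true_eq, and_true] at h
  obtain ⟨⟨o0, o1, o2⟩, hs⟩ := h
  obtain ⟨f, hf⟩ := hasLin_of_mem (elt l).2
  have ho : ∀ j : Fin 3, okW l (basisV j) = true := fun j => by fin_cases j <;> assumption
  have hb : ∀ j : Fin 3, f (toV (basisV j)) = toV (evalW l (basisV j)) := fun j =>
    (hf ⟨toV (basisV j), (toV_mem_iff _).2 (basis_inL j)⟩).symm.trans (elt_toV _ _ _ (ho j))
  obtain ⟨q, hq, hj⟩ : ∃ q : ℍ[ℝ], (q = 1 ∨ q = -1) ∧ ∀ j : Fin 3, f (toV (basisV j)) = q • toV (basisV j) := by
    rcases hs with ⟨e0, e1, e2⟩ | ⟨e0, e1, e2⟩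
    · refine ⟨1, .inl rfl, fun j => ?_⟩
      rw [hb, one_smul]
      fin_cases j <;> simp [e0, e1, e2]
    · refine ⟨-1, .inr rfl, fun j => ?_⟩
      rw [hb, neg_one_smul]
      have hn : ∀ v : V3, toV (-v.1, -v.2.1, -v.2.2) = -toV v := fun v => by
        funext t; fin_cases t <;> simp [toV]
      fin_cases j <;> simp [e0, e1, e2, hn]
  have hq' : ∀ a : ℍ[ℝ], a * q = q * a := fun a => by rcases hq with rfl | rfl <;> simp
  have hscal : ∀ x : icoLeech, f x = q • (x : Fin 3 → ℍ[ℝ]) := by
    intro x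
    obtain ⟨c, -, hc⟩ := exists_coeffs x.2
    have hsum : (x : Fin 3 → ℍ[ℝ]) = ∑ i, c i • toV (basisV i) := by
      rw [hc]; funext t; simp [Finset.sum_apply]
    rw [hsum, map_sum, Finset.smul_sum]
    exact Finset.sum_congr rfl fun i _ => by rw [map_smul, hj, smul_smul, smul_smul, hq']
  refine Subgroup.mem_center_iff.2 fun h => ?_
  obtain ⟨k, hk⟩ := hasLin_of_mem h.2
  refine Subtype.ext (Equiv.ext fun x => Subtype.ext ?_)
  simp only [Subgroup.coe_mul, Equiv.Perm.mul_apply]
  rw [hk, hf, hscal, map_smul, ← hk, hf, hscal]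

/-- The letters as products of reflections. -/
def lt5 (x : ℕ) : List ℕ := IcoData.letters.getD x []

/-- The generators in `J₂`. -/
def gJ (x : ℕ) : J2 := QuotientGroup.mk' _ (elt (lt5 x))

theorem prodw_gJ : ∀ w : List ℕ, prodw gJ w = QuotientGroup.mk' _ (elt (w.flatMap lt5))
  | [] => by simp [prodw, elt]
  | x :: w => by
    rw [prodw_cons, prodw_gJ w, gJ, ← map_mul]
    simp [elt, List.map_append, List.prod_append]

theorem words_central : setup.words.all (fun w => centralB (w.flatMap lt5)) = true := by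
  decide +kernel

theorem prodw_gJ_eq_one {w : List ℕ} (hw : w ∈ setup.words) : prodw gJ w = 1 := by
  rw [prodw_gJ]
  exact (QuotientGroup.eq_one_iff _).2 (mem_center_of_centralB (List.all_eq_true.1 words_central w hw))

/-- The generators by name. -/
def fJ (a : Gen) : J2 := gJ (ix a)

theorem gJ_eq_fJ {x : ℕ} (hx : x < 5) : fJ (en x) = gJ x := by interval_cases x <;> rfl

theorem prodw_fJ {w : List ℕ} (h : ∀ x ∈ w, x < 5) : prodw (fJ ∘ en) w = prodw gJ w := by
  unfold prodw
  exact congrArg List.prod (List.map_congr_left fun x hx => gJ_eq_fJ (h x hx))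

theorem words_lt : setup.words.all (fun w => w.all fun x => Nat.blt x 5) = true := by decide +kernel

theorem fJ_word {w : List ℕ} (hw : w ∈ setup.words) : prodw (fJ ∘ en) w = 1 := by
  rw [prodw_fJ (fun x hx => by simpa using List.all_eq_true.1 (List.all_eq_true.1 words_lt w hw) x hx),
    prodw_gJ_eq_one hw]

theorem fJ_sq (a : Gen) : fJ a * fJ a = 1 := by
  have h := fJ_word (w := [ix a, ix a]) (by cases a <;> decide +kernel)
  simpa [prodw, show en (ix a) = a from setup.en_ix a] using h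

theorem fJ_rels : ∀ r ∈ coxRelators edges ∪ {r | r ∈ extra}, FreeGroup.lift fJ r = 1 := by
  rintro r (⟨a, -, b, -, rfl⟩ | hr)
  · have hp : ∀ a b, ix a ≤ ix b → (fJ a * fJ b) ^ coxLabel edges a b = 1 := by
      intro a b hab
      have := fJ_word (w := (List.replicate (coxLabel edges a b) [ix a, ix b]).flatten) (by
        show _ ∈ coxWords en 5 edges ++ exW
        refine List.mem_append_left _ (mem_coxWords.mpr
          ⟨ix a, ix b, setup.ix_lt a, setup.ix_lt b, hab, ?_⟩)
        rw [show en (ix a) = a from setup.en_ix a, show en (ix b) = b from setup.en_ix b])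
      rw [prodw_replicate] at this
      simpa [prodw, show ∀ a, en (ix a) = a from setup.en_ix] using this
    rw [map_pow, map_mul, FreeGroup.lift_apply_of, FreeGroup.lift_apply_of]
    rcases le_total (ix a) (ix b) with h | h
    · exact hp a b h
    · have := hp b a h
      rw [coxLabel_symm] at this
      have e : fJ a * fJ b = (fJ b * fJ a)⁻¹ := by
        rw [_root_.mul_inv_rev, inv_eq_of_mul_eq_one_right (fJ_sq a),
          inv_eq_of_mul_eq_one_right (fJ_sq b)]
      rw [e, inv_pow, this, inv_one]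
  · have hm : FreeGroup.lift fJ r ∈ extra.map (FreeGroup.lift fJ) := List.mem_map_of_mem hr
    rw [show extra.map (FreeGroup.lift fJ) = exW.map (prodw (fJ ∘ en)) from
      setup.exW_eq _ fJ fJ_sq] at hm
    obtain ⟨w, hw, hw'⟩ := List.mem_map.1 hm
    rw [← hw']
    exact fJ_word (List.mem_append_right _ hw)

/-- The map onto `J₂`. -/
def toJ2 : Grp →* J2 := PresentedGroup.toGroup fJ_rels

theorem gJ_mem {x : ℕ} (hx : x < 5) : gJ x ∈ toJ2.range :=
  ⟨PresentedGroup.of (en x), (PresentedGroup.toGroup.of _).trans (gJ_eq_fJ hx)⟩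

theorem prod_mem_range (l : List ℕ) : ∀ (v : V3) (hv : toV v ∈ icoLeech), okW l v = true →
    ∀ h4 : qip (toV v) (toV v) = 4, ∃ (hw : toV (evalW l v) ∈ icoLeech)
      (hw4 : qip (toV (evalW l v)) (toV (evalW l v)) = 4),
      ((elt l : twoJ2) : Equiv.Perm icoLeech) * reflPerm ⟨_, hv⟩ h4 *
        ((elt l : twoJ2) : Equiv.Perm icoLeech)⁻¹ = reflPerm ⟨_, hw⟩ hw4 := by
  induction l with
  | nil => exact fun v hv _ h4 => ⟨hv, h4, by simp [elt]; rfl⟩
  | cons i l ih =>
    intro v hv h h4
    simp only [okW, Bool.and_eq_true, Nat.blt_eq, Nat.beq_eq] at h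
    obtain ⟨h1, hi, hc⟩ := h
    obtain ⟨hu, hu4, e⟩ := ih v hv h1 h4
    have hm := (line_mem (lineAt_mem hi)).2
    have hr : toV (evalW (i :: l) v) = qrefl (toV (lineAt i)) (toV (evalW l v)) := toV_reflI hc
    refine ⟨hr ▸ qrefl_mem hu (line_mem (lineAt_mem hi)).1,
      by rw [hr, qip_qrefl_qrefl hm, hu4], ?_⟩
    have hmul : ((elt (i :: l) : twoJ2) : Equiv.Perm icoLeech) =
        lineRefl ⟨_, lineAt_mem hi⟩ * ((elt l : twoJ2) : Equiv.Perm icoLeech) := by
      show ((refl i * elt l : twoJ2) : Equiv.Perm icoLeech) = _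
      rw [Subgroup.coe_mul, refl, dif_pos hi]
    rw [hmul, mul_inv_rev,
      show ∀ a b c : Equiv.Perm icoLeech, a * b * c * (b⁻¹ * a⁻¹) = a * (b * c * b⁻¹) * a⁻¹ from
        fun a b c => by group, e, mul_inv_eq_iff_eq_mul]
    refine Equiv.ext fun x => Subtype.ext ?_
    simp only [Equiv.Perm.mul_apply, lineRefl, reflPerm_apply, lineVec]
    rw [hr]
    funext t
    show qrefl (toV (evalW l v)) (x : Fin 3 → ℍ[ℝ]) t -
        ((1 / 2 : ℝ) • qip (qrefl (toV (evalW l v)) x) (toV (lineAt i))) * toV (lineAt i) t =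
      qrefl (toV (lineAt i)) (x : Fin 3 → ℍ[ℝ]) t -
        ((1 / 2 : ℝ) • qip (qrefl (toV (lineAt i)) x)
          (qrefl (toV (lineAt i)) (toV (evalW l v)))) * qrefl (toV (lineAt i)) (toV (evalW l v)) t
    rw [qip_qrefl_qrefl hm, qip_qrefl_right]
    simp only [qrefl]
    simp only [smul_sub, sub_mul, mul_sub, smul_mul_assoc, mul_smul_comm, mul_assoc]
    abel

/-- The line in position `k` of the tree. -/
def posAt (k : ℕ) : ℕ := (0 :: IcoData.tree.map Prod.fst).getD k 0

/-- The check of the tree. -/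
def jTreeB : Bool :=
  (List.range IcoData.tree.length).all fun k =>
    let e := IcoData.tree.getD k (0, 0, 0)
    let v := lineAt (posAt e.2.1)
    decide (e.2.1 ≤ k) && decide (e.2.2 < 5) && decide (posAt e.2.1 < 315) &&
      decide (posAt (k + 1) < 315) && okW (lt5 e.2.2) v &&
      projKey (evalW (lt5 e.2.2) v) == projKey (lineAt (posAt (k + 1)))

theorem jTreeB_eq : jTreeB = true := by decide +kernel

theorem tree_length : IcoData.tree.length = 314 := by decide +kernel

theorem jTree_cover : ∀ i ∈ List.range 315, i ∈ 0 :: IcoData.tree.map Prod.fst := by decide +kernel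

theorem refl_mem_range : ∀ k, k < 315 → QuotientGroup.mk' _ (refl (posAt k)) ∈ toJ2.range := by
  intro k
  induction k using Nat.strong_induction_on with
  | _ k ih =>
    intro hk
    match k with
    | 0 =>
      have := gJ_mem (x := 0) (by decide)
      rwa [gJ, show lt5 0 = [0] from rfl, show elt [0] = refl 0 by simp [elt]] at this
    | k + 1 =>
      have h := List.all_eq_true.1 jTreeB_eq k (List.mem_range.2 (by rw [tree_length]; omega))
      simp only [Bool.and_eq_true, decide_eq_true_eq, beq_iff_eq] at h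
      obtain ⟨⟨⟨⟨⟨hp, hx⟩, hv⟩, hn⟩, ho⟩, hkey⟩ := h
      obtain ⟨hw, hw4, e⟩ := prod_mem_range _ _ (line_mem (lineAt_mem hv)).1 ho (line_mem (lineAt_mem hv)).2
      have hconj : refl (posAt (k + 1)) =
          elt (lt5 (IcoData.tree.getD k (0, 0, 0)).2.2) * refl (posAt (IcoData.tree.getD k (0, 0, 0)).2.1) *
            (elt (lt5 (IcoData.tree.getD k (0, 0, 0)).2.2))⁻¹ := by
        refine Subtype.ext ?_
        rw [Subgroup.coe_mul, Subgroup.coe_mul, Subgroup.coe_inv, refl, dif_pos hn, refl, dif_pos hv]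
        refine Eq.trans ?_ e.symm
        refine Equiv.ext fun x => Subtype.ext ?_
        show qrefl (toV (lineAt (posAt (k + 1)))) x = qrefl (toV (evalW _ _)) x
        rw [qrefl_congr ((projKey_eq_iff _ _).1 hkey)]
      rw [hconj, map_mul, map_mul, map_inv]
      exact mul_mem (mul_mem (gJ_mem hx) (ih _ (Nat.lt_succ_of_le hp) (by omega))) (inv_mem (gJ_mem hx))

theorem toJ2_surjective : Function.Surjective toJ2 := by
  rw [← MonoidHom.range_eq_top, eq_top_iff]
  rintro y -
  obtain ⟨⟨g, hg⟩, rfl⟩ := QuotientGroup.mk'_surjective _ y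
  induction hg using Subgroup.closure_induction with
  | one => exact one_mem _
  | mem g hg =>
    obtain ⟨⟨v, hv⟩, rfl⟩ := exists_lineRefl hg
    obtain ⟨i, hi, rfl⟩ := List.getElem_of_mem hv
    have hi' : i < 315 := lines_length ▸ hi
    obtain ⟨k, hk, hk'⟩ := List.getElem_of_mem (jTree_cover i (List.mem_range.2 hi'))
    have hlen : (0 :: IcoData.tree.map Prod.fst).length = 315 := by simp [tree_length]
    have hpos : posAt k = i := by rw [posAt, List.getD_eq_getElem _ _ hk, hk']
    have hr := refl_mem_range k (hlen ▸ hk)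
    rw [hpos] at hr
    refine Eq.mp (congrArg (· ∈ toJ2.range) (congrArg (QuotientGroup.mk' _) (Subtype.ext ?_))) hr
    rw [refl, dif_pos hi']
    exact congrArg lineRefl (Subtype.ext (List.getD_eq_getElem _ _ hi))
  | inv g hg ih =>
    refine Eq.mp (congrArg (· ∈ toJ2.range) ?_) (inv_mem ih)
    exact (map_inv (QuotientGroup.mk' (Subgroup.center twoJ2)) ⟨g, hg⟩).symm
  | mul g h hg hh ihg ihh =>
    refine Eq.mp (congrArg (· ∈ toJ2.range) ?_) (mul_mem ihg ihh)
    exact (map_mul (QuotientGroup.mk' _) _ _).symm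

theorem refl_zero_one_ne : refl 0 * refl 251 ≠ refl 251 * refl 0 := by
  have h : okW [0, 251] (basisV 0) = true ∧ okW [251, 0] (basisV 0) = true ∧
      evalW [0, 251] (basisV 0) ≠ evalW [251, 0] (basisV 0) := by decide +kernel
  intro e
  have e' : elt [0, 251] = elt [251, 0] := by simpa [elt] using e
  have hb := (toV_mem_iff (basisV 0)).2 (basis_inL 0)
  refine h.2.2 (toV_injective ?_)
  rw [← elt_toV _ _ hb h.1, ← elt_toV _ _ hb h.2.1, e']

theorem nontrivial_J2 : Nontrivial J2 := by
  refine ⟨⟨QuotientGroup.mk' _ (refl 0), 1, fun h => refl_zero_one_ne ?_⟩⟩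
  exact (Subgroup.mem_center_iff.1 ((QuotientGroup.eq_one_iff _).1 h) (refl 251)).symm

theorem toJ2_injective : Function.Injective toJ2 := by
  haveI := isSimpleGroup_grp
  rcases toJ2.normal_ker.eq_bot_or_eq_top with h | h
  · exact (MonoidHom.ker_eq_bot_iff _).1 h
  · exfalso
    haveI := nontrivial_J2
    obtain ⟨y, hy⟩ := exists_ne (1 : J2)
    obtain ⟨x, rfl⟩ := toJ2_surjective y
    exact hy (MonoidHom.mem_ker.1 (h ▸ Subgroup.mem_top x))

/-- `J₂` is the presented group. -/
def equivJ2 : Grp ≃* J2 := MulEquiv.ofBijective toJ2 ⟨toJ2_injective, toJ2_surjective⟩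

theorem card_J2 : Nat.card J2 = 604800 := by
  rw [← Nat.card_congr equivJ2.toEquiv]; exact card_grp

theorem isSimpleGroup_J2 : IsSimpleGroup J2 := by
  haveI := isSimpleGroup_grp
  exact equivJ2.symm.isSimpleGroup

end CfsgLib.J2Model

end
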