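import Cfsg.Agent.CosetEnum.Cox
import Cfsg.Prelude.Def_Spor_Suz

/-!
The relators of the presentation of `Suz` among the generators `a, …, e` (the Hall–Janko group).
-/

set_option autoImplicit false

namespace CfsgLib.J2Model

open Cfsg.Spor CfsgLib.CosetEnum

/-- The generators `a, …, e`. -/
inductive Gen
  | a
  | b
  | c
  | d
  | e
  deriving DecidableEq

/-- The sub-diagram. -/
def edges : List (Gen × ℕ × Gen) := [(.a, 5, .b), (.b, 3, .c), (.c, 8, .d), (.d, 3, .e)]

/-- The further relators among `a, …, e`. -/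
def extra : List (FreeGroup Gen) := [
  FreeGroup.of Gen.a * ((FreeGroup.of Gen.c * FreeGroup.of Gen.d) ^ 4)⁻¹,
  ((FreeGroup.of Gen.b * FreeGroup.of Gen.c * FreeGroup.of Gen.d * FreeGroup.of Gen.c *
    FreeGroup.of Gen.d) ^ 5 * FreeGroup.of Gen.e) ^ 3 ]

/-- Letters as generators. -/
def en : ℕ → Gen
  | 0 => .a
  | 1 => .b
  | 2 => .c
  | 3 => .d
  | _ => .e

/-- Generators as letters. -/
def ix : Gen → ℕ
  | .a => 0
  | .b => 1
  | .c => 2
  | .d => 3
  | .e => 4

/-- The extra relators as words. -/
def exW : List (List ℕ) :=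
  [0 :: (List.replicate 4 [3, 2]).flatten,
    (List.replicate 3 ((List.replicate 5 [1, 2, 3, 2, 3]).flatten ++ [4])).flatten]

/-- The setup. -/
def setup : Setup Gen where
  edges := edges
  extra := extra
  k := 5
  en := en
  ix := ix
  exW := exW
  words := coxWords en 5 edges ++ exW
  en_ix := fun a => by cases a <;> rfl
  ix_lt := fun a => by cases a <;> decide
  ix_en := fun x hx => by interval_cases x <;> rfl
  node := fun a => by cases a <;> decide
  exW_eq := fun K _ φ hφ => by
    have hi : ∀ a, (φ a)⁻¹ = φ a := fun a => inv_eq_of_mul_eq_one_right (hφ a)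
    simp [extra, exW, prodw, en, hi, pow_succ, mul_assoc]
  words_eq := rfl
  exW_lt := by decide

end CfsgLib.J2Model
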