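import Cfsg.Agent.J2Model.Suborbit
import Cfsg.Agent.J2Model.Map
import Cfsg.Agent.GTwoFour.Main

/-!
# `J₂` is maximal in `G₂(4)` and the action on its cosets is extremely primitive
-/

set_option autoImplicit false
set_option maxRecDepth 100000
set_option exponentiation.threshold 3000

namespace CfsgLib.J2Model

open CfsgLib.CosetEnum Data Cfsg Cfsg.Lie

noncomputable section

instance finite_big : Finite Big := CfsgLib.SuzG2.finite_and_card_le.1

theorem range_toBig : toBig.range = LE.enum.H := by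
  rw [MonoidHom.range_eq_map, ← grp_eq_closure, MonoidHom.map_closure]
  unfold Enum.H
  congr 1
  ext y
  constructor
  · rintro ⟨_, ⟨x, hx, rfl⟩, rfl⟩
    refine ⟨x, hx, ?_⟩
    rw [toBig_g hx]
    have hx' : x < 5 := hx
    interval_cases x <;> simp [prodw, LE.enum]
  · rintro ⟨x, hx, rfl⟩
    have hx' : x < 5 := hx
    refine ⟨setup.g x, ⟨x, hx', rfl⟩, ?_⟩
    rw [toBig_g hx']
    interval_cases x <;> simp [prodw, LE.enum]

/-- The suborbits on 416 points. -/
def GRs : List ℕ := [GR0, GR1]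

theorem g_cover : allR (fun i => bif Nat.blt i 416 then memberOf GRs (2 ^ GRs.length - 1) i else true) 9 0 = true := by
  decide +kernel

theorem g_block : (List.range 4).all (fun m => noBlock 416 9 GRs m) = true := by decide +kernel

/-- The words of the subgroup. -/
def GW : List (List ℕ) := [[0], [1], [2], [3], [4]]

theorem greach0 : reach CfsgLib.SuzG2.G4E.tb (fun s => GW.getD s []) 9 GS0 1 = GR0 := by
  decide +kernel

theorem greach1 : reach CfsgLib.SuzG2.G4E.tb (fun s => GW.getD s []) 7 GS1 77 = GR1 := by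
  decide +kernel

/-- The tables on 315 points. -/
def U0 : ℕ → ℕ
  | 0 => Y0U0
  | 1 => Y0U1
  | 2 => Y0U2
  | 3 => Y0U3
  | 4 => Y0U4
  | _ => 0

def YRs0 : List ℕ := [Y0R0, Y0R1, Y0R2, Y0R3, Y0R4]

theorem ylab0 : allR (Restrict.leftInvEntry 416 315 Y0P Y0IP) 9 0 = true := by decide +kernel

theorem ytabs0 : goodTabs 315 Y0P U0 9 = true := by decide +kernel

theorem ytrans0 : reach U0 (fun s => if s < 5 then [s] else []) 9 Y0T 0 = 2 ^ 315 - 1 := by
  decide +kernel

theorem ywords0 : Y0W.all (fun w => w.all (fun x => Nat.blt x 5) && Nat.beq (walk U0 w 0) 0) = true := by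
  decide +kernel

theorem ycover0 : allR (fun i => bif Nat.blt i 315 then memberOf YRs0 (2 ^ YRs0.length - 1) i else true) 9 0 = true := by
  decide +kernel

theorem yblock0 : (List.range (2 ^ YRs0.length)).all (fun m => noBlock 315 9 YRs0 m) = true := by
  decide +kernel

theorem yreach0_0 : reach U0 (fun s => Y0W.getD s []) 5 Y0S0 1 = Y0R0 := by
  decide +kernel

theorem yreach0_1 : reach U0 (fun s => Y0W.getD s []) 5 Y0S1 4 = Y0R1 := by
  decide +kernel

theorem yreach0_2 : reach U0 (fun s => Y0W.getD s []) 8 Y0S2 9 = Y0R2 := by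
  decide +kernel

theorem yreach0_3 : reach U0 (fun s => Y0W.getD s []) 7 Y0S3 20 = Y0R3 := by
  decide +kernel

theorem yreach0_4 : reach U0 (fun s => Y0W.getD s []) 4 Y0S4 22 = Y0R4 := by
  decide +kernel

theorem yhit0 : allR (fun j => bif bit GR0 j then Nat.blt (ext Y0IP j) 315 &&
    Nat.beq (ext Y0P (ext Y0IP j)) j else true) 9 0 = true := by decide +kernel

theorem stab_maximal0 (φ : Big →* Equiv.Perm (Fin LE.enum.n))
    (hφ : ∀ (w : List ℕ), (∀ x ∈ w, x < CfsgLib.SuzG2.setup.k) → ∀ i : Fin LE.enum.n,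
      ((φ (prodw CfsgLib.SuzG2.setup.g w))⁻¹ i).val = walk LE.enum.tb w i)
    (j : Fin LE.enum.n) (hj : bit GR0 j.val = true) :
    ∃ K : Subgroup Grp, IsCoatom K ∧ ∀ g, g ∈ K ↔ φ (toBig g) j = j := by
  haveI : NeZero 315 := ⟨by decide⟩
  refine isCoatom_stab (n := 315) (d := 9) (IP := Y0IP) (U := U0) (by decide) (by decide) ylab0 ytabs0
    ytrans0 Y0W ywords0 YRs0 (fun o ho => ?_) ycover0 yblock0 φ hφ j ?_
  · have ho' : o < 5 := ho
    interval_cases o
    · exact ⟨1, 5, Y0S0, by decide, yreach0_0⟩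
    · exact ⟨4, 5, Y0S1, by decide, yreach0_1⟩
    · exact ⟨9, 8, Y0S2, by decide, yreach0_2⟩
    · exact ⟨20, 7, Y0S3, by decide, yreach0_3⟩
    · exact ⟨22, 4, Y0S4, by decide, yreach0_4⟩
  · have h := allR_spec 9 0 yhit0 j.val (Nat.zero_le _) (lt_of_lt_of_le j.2 (show LE.enum.n ≤ 0 + 2 ^ 9 by decide +kernel))
    simp only [hj, cond_true, Bool.and_eq_true, Nat.blt_eq, Nat.beq_eq] at h
    exact ⟨⟨_, h.1⟩, h.2⟩

/-- The tables on 100 points. -/
def U1 : ℕ → ℕ
  | 0 => Y1U0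
  | 1 => Y1U1
  | 2 => Y1U2
  | 3 => Y1U3
  | 4 => Y1U4
  | _ => 0

def YRs1 : List ℕ := [Y1R0, Y1R1]

theorem ylab1 : allR (Restrict.leftInvEntry 416 100 Y1P Y1IP) 7 0 = true := by decide +kernel

theorem ytabs1 : goodTabs 100 Y1P U1 7 = true := by decide +kernel

theorem ytrans1 : reach U1 (fun s => if s < 5 then [s] else []) 7 Y1T 0 = 2 ^ 100 - 1 := by
  decide +kernel

theorem ywords1 : Y1W.all (fun w => w.all (fun x => Nat.blt x 5) && Nat.beq (walk U1 w 0) 0) = true := by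
  decide +kernel

theorem ycover1 : allR (fun i => bif Nat.blt i 100 then memberOf YRs1 (2 ^ YRs1.length - 1) i else true) 7 0 = true := by
  decide +kernel

theorem yblock1 : (List.range (2 ^ YRs1.length)).all (fun m => noBlock 100 7 YRs1 m) = true := by
  decide +kernel

theorem yreach1_0 : reach U1 (fun s => Y1W.getD s []) 6 Y1S0 1 = Y1R0 := by
  decide +kernel

theorem yreach1_1 : reach U1 (fun s => Y1W.getD s []) 6 Y1S1 4 = Y1R1 := by
  decide +kernel

theorem yhit1 : allR (fun j => bif bit GR1 j then Nat.blt (ext Y1IP j) 100 &&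
    Nat.beq (ext Y1P (ext Y1IP j)) j else true) 9 0 = true := by decide +kernel

theorem stab_maximal1 (φ : Big →* Equiv.Perm (Fin LE.enum.n))
    (hφ : ∀ (w : List ℕ), (∀ x ∈ w, x < CfsgLib.SuzG2.setup.k) → ∀ i : Fin LE.enum.n,
      ((φ (prodw CfsgLib.SuzG2.setup.g w))⁻¹ i).val = walk LE.enum.tb w i)
    (j : Fin LE.enum.n) (hj : bit GR1 j.val = true) :
    ∃ K : Subgroup Grp, IsCoatom K ∧ ∀ g, g ∈ K ↔ φ (toBig g) j = j := by
  haveI : NeZero 100 := ⟨by decide⟩
  refine isCoatom_stab (n := 100) (d := 7) (IP := Y1IP) (U := U1) (by decide) (by decide) ylab1 ytabs1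
    ytrans1 Y1W ywords1 YRs1 (fun o ho => ?_) ycover1 yblock1 φ hφ j ?_
  · have ho' : o < 2 := ho
    interval_cases o
    · exact ⟨1, 6, Y1S0, by decide, yreach1_0⟩
    · exact ⟨4, 6, Y1S1, by decide, yreach1_1⟩
  · have h := allR_spec 9 0 yhit1 j.val (Nat.zero_le _) (lt_of_lt_of_le j.2 (show LE.enum.n ≤ 0 + 2 ^ 9 by decide +kernel))
    simp only [hj, cond_true, Bool.and_eq_true, Nat.blt_eq, Nat.beq_eq] at h
    exact ⟨⟨_, h.1⟩, h.2⟩

theorem greach (φ : Big →* Equiv.Perm (Fin LE.enum.n))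
    (hφ : ∀ (w : List ℕ), (∀ x ∈ w, x < CfsgLib.SuzG2.setup.k) → ∀ i : Fin LE.enum.n,
      ((φ (prodw CfsgLib.SuzG2.setup.g w))⁻¹ i).val = walk LE.enum.tb w i)
    (dR steps i R : ℕ) (hi : i < 416)
    (hR : reach CfsgLib.SuzG2.G4E.tb (fun s => GW.getD s []) dR steps i = R) :
    ∀ j, bit R j = true → ∃ h ∈ LE.enum.H, ((φ h)⁻¹ (⟨i, hi⟩ : Fin LE.enum.n)).val = j :=
  reach_mem (φ := φ) (tb := CfsgLib.SuzG2.G4E.tb) (fun s => GW.getD s []) 5
    (fun s => prodw CfsgLib.SuzG2.setup.g (GW.getD s []))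
    (fun s hs => Subgroup.subset_closure
      (k := (fun s => prodw CfsgLib.SuzG2.setup.g (LE.enum.sW.getD s [])) '' {s | s < LE.enum.sW.length})
      ⟨s, hs, rfl⟩)
    (fun s hs => hφ _ (by interval_cases s <;> decide))
    (fun s hs => List.getD_eq_default _ _ hs) (⟨i, hi⟩ : Fin LE.enum.n) hR

theorem isSimpleGroup_big : IsSimpleGroup Big := by
  obtain ⟨E⟩ := CfsgLib.SuzG2.nonempty_equiv
  haveI : IsSimpleGroup CfsgLib.SuzG2.G24 := CfsgLib.SuzG2.isSimple
  exact E.isSimpleGroup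

theorem g_ne_one : CfsgLib.SuzG2.setup.g 0 ≠ 1 := by
  obtain ⟨φ, e, hφ, -, -⟩ := LE.action
  intro h
  have h1 := hφ [0] (by decide) ⟨5, by decide +kernel⟩
  have h2 : prodw CfsgLib.SuzG2.setup.g [0] = 1 := by simpa [prodw] using h
  rw [h2, map_one, inv_one, Equiv.Perm.one_apply] at h1
  exact absurd h1 (by decide +kernel)

theorem toBig_injective : Function.Injective toBig := by
  haveI := isSimpleGroup_grp
  rcases toBig.normal_ker.eq_bot_or_eq_top with h | h
  · exact (MonoidHom.ker_eq_bot_iff _).1 h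
  · refine absurd ?_ g_ne_one
    rw [← toBig_g (by decide : 0 < 5)]
    exact MonoidHom.mem_ker.1 (h ▸ Subgroup.mem_top _)

/-- In the presented `G₂(4)` the subgroup on `a, …, e` is a maximal `J₂` with maximal intersections. -/
theorem extremely_primitive :
    ∃ H : Subgroup Big, IsCoatom H ∧ Cfsg.Spor.IsoJ2 H ∧
      ∀ x : Big, x ∉ H → IsCoatom ((H ⊓ H.map (MulAut.conj x).toMonoidHom).subgroupOf H) := by
  obtain ⟨φ, e, hφ, he, he0⟩ := LE.action
  let Ψ : Grp ≃* LE.enum.H := (MonoidHom.ofInjective toBig_injective).trans (MulEquiv.subgroupCongr range_toBig)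
  have hΨ : ∀ g, ((Ψ g : LE.enum.H) : Big) = toBig g := fun g => rfl
  have hmem : ∀ y : Big, y ∈ LE.enum.H ↔ φ y 0 = 0 := by
    intro y
    rw [← he0, ← he y ((1 : Big) : Big ⧸ LE.enum.H), MulAction.Quotient.smul_coe, smul_eq_mul, mul_one,
      e.injective.eq_iff, QuotientGroup.eq, mul_one, inv_mem_iff]
  refine ⟨LE.enum.H, ⟨fun htop => ?_, fun K hK => ?_⟩, ⟨Ψ.symm.trans equivJ2⟩, fun x hx => ?_⟩
  · have h : LE.enum.H.index = 416 := LE.enum.index_H e
    rw [htop, Subgroup.index_top] at h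
    omega
  · refine (eq_or_eq_top_of_le φ e he he0 GRs ?_ (d := 9) (by decide +kernel) g_cover
      (fun m hm => List.all_eq_true.1 g_block m (List.mem_range.2 hm)) hK.le).resolve_left hK.ne'
    intro o ho
    have ho' : o < 2 := ho
    interval_cases o
    · exact ⟨⟨1, by decide +kernel⟩, greach φ hφ 9 GS0 1 GR0 (by decide) greach0⟩
    · exact ⟨⟨77, by decide +kernel⟩, greach φ hφ 7 GS1 77 GR1 (by decide) greach1⟩
  · set i := φ x 0 with hi
    have hi0 : i.val ≠ 0 := fun h => hx ((hmem x).2 (Fin.ext h))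
    obtain ⟨K, hK, hKmem⟩ : ∃ K : Subgroup Grp, IsCoatom K ∧ ∀ g, g ∈ K ↔ φ (toBig g) i = i := by
      have h := allR_spec 9 0 g_cover i.val (Nat.zero_le _) (lt_of_lt_of_le i.2 (show LE.enum.n ≤ 0 + 2 ^ 9 by decide +kernel))
      rw [show Nat.blt i.val 416 = true from Nat.blt_eq.symm ▸ i.2, cond_true, memberOf_iff] at h
      rcases h with h | ⟨o, ho, -, h⟩
      · exact absurd h hi0
      · have ho' : o < 2 := ho
        interval_cases o
        · exact stab_maximal0 φ hφ i h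
        · exact stab_maximal1 φ hφ i h
    have hsub : (LE.enum.H ⊓ LE.enum.H.map (MulAut.conj x).toMonoidHom).subgroupOf LE.enum.H =
        Ψ.mapSubgroup K := by
      ext h
      obtain ⟨g, rfl⟩ := Ψ.surjective h
      show _ ↔ Ψ g ∈ K.map Ψ.toMonoidHom
      rw [Subgroup.mem_map_equiv, MulEquiv.symm_apply_apply, hKmem, Subgroup.mem_subgroupOf, Subgroup.mem_inf,
        and_iff_right (Ψ g).2, Subgroup.mem_map_equiv, hmem, hΨ, MulAut.conj_symm_apply, map_mul, map_mul,
        map_inv, Equiv.Perm.mul_apply, Equiv.Perm.mul_apply, Equiv.Perm.inv_eq_iff_eq]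
    rw [hsub]
    exact (OrderIso.isCoatom_iff _ K).2 hK

/-- `G₂(4)` has an extremely primitive action on the cosets of a maximal `J₂`. -/
theorem extremely_primitive_G2 {F : Type*} [Field F] [Fintype F] (hF : Fintype.card F = 4) :
    ∃ H : Subgroup (chevG2.group F), IsCoatom H ∧ Cfsg.Spor.IsoJ2 H ∧
      ∀ x : chevG2.group F, x ∉ H → IsCoatom ((H ⊓ H.map (MulAut.conj x).toMonoidHom).subgroupOf H) := by
  obtain ⟨E₀⟩ := CfsgLib.SuzG2.nonempty_equiv
  let E : Big ≃* chevG2.group F := E₀.trans (CfsgLib.GTwoFour.groupEquiv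
    (FiniteField.ringEquivOfCardEq (K := F) (K' := CfsgLib.CriticalFive.F4)
      (hF.trans CfsgLib.CriticalFive.F4.card_eq.symm))).symm
  obtain ⟨H, hH, ⟨j⟩, hint⟩ := extremely_primitive
  let Ψ : H ≃* H.map E.toMonoidHom := E.subgroupMap H
  refine ⟨H.map E.toMonoidHom, (OrderIso.isCoatom_iff E.mapSubgroup H).2 hH, ⟨Ψ.symm.trans j⟩, fun x hx => ?_⟩
  obtain ⟨x, rfl⟩ := E.surjective x
  have hx' : x ∉ H := fun h => hx ⟨x, h, rfl⟩
  have hsub : (H.map E.toMonoidHom ⊓ (H.map E.toMonoidHom).map (MulAut.conj (E x)).toMonoidHom).subgroupOf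
      (H.map E.toMonoidHom) =
        Ψ.mapSubgroup ((H ⊓ H.map (MulAut.conj x).toMonoidHom).subgroupOf H) := by
    ext h
    obtain ⟨g, rfl⟩ := Ψ.surjective h
    show _ ↔ Ψ g ∈ ((H ⊓ H.map (MulAut.conj x).toMonoidHom).subgroupOf H).map Ψ.toMonoidHom
    rw [Subgroup.mem_map_equiv, MulEquiv.symm_apply_apply, Subgroup.mem_subgroupOf, Subgroup.mem_subgroupOf,
      Subgroup.mem_inf, Subgroup.mem_inf, and_iff_right g.2, and_iff_right (Ψ g).2]
    simp only [Subgroup.mem_map_equiv, MulAut.conj_symm_apply]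
    rw [map_mul, map_mul, map_inv, E.symm_apply_apply]
    show x⁻¹ * E.symm (E g) * x ∈ H ↔ _
    rw [E.symm_apply_apply]
  rw [hsub]
  exact (OrderIso.isCoatom_iff _ _).2 (hint x hx')

end

end CfsgLib.J2Model
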