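import Cfsg.Agent.J2Model.Cert.LA
import Cfsg.Agent.J2Model.Cert.LB
import Cfsg.Agent.J2Model.Cert.LC
import Cfsg.Agent.J2Model.Cert.LD
import Cfsg.Agent.J2Model.Data
import Cfsg.Agent.CosetEnum.WordTest
import Mathlib.Algebra.Group.Subgroup.Finite

/-!
# The presented group on `a, …, e`: order 604800, faithful on 280 points, simple
-/

set_option autoImplicit false
set_option maxRecDepth 100000
set_option exponentiation.threshold 3000

namespace CfsgLib.J2Model

open CfsgLib.CosetEnum Data

/-- The presented group. -/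
abbrev Grp : Type := setup.Grp

theorem finite_and_card_le : Finite Grp ∧ Nat.card Grp ≤ 604800 := by
  have h0 := LA.bound 1 ⟨setup.finite_letSub_nil, setup.card_letSub_nil⟩
  have h1 := LB.bound _ h0
  have h2 := LC.bound _ h1
  obtain ⟨φ, e, -, -, -⟩ := LD.action
  have hH : LD.enum.H = setup.letSub LC.enum.L := by
    rw [← setup.closure_localG]
    refine congrArg Subgroup.closure (Set.image_congr fun s hs => ?_)
    have hs' : s < 4 := hs
    interval_cases s <;> simp [prodw, Setup.localG, LD.enum, LC.enum]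
  rw [← hH] at h2
  obtain ⟨hfin, hle⟩ := h2
  haveI := hfin
  haveI : Finite (Grp ⧸ LD.enum.H) := Finite.of_equiv _ e.symm
  refine ⟨Finite.of_equiv _ (Subgroup.groupEquivQuotientProdSubgroup (s := LD.enum.H)).symm, ?_⟩
  rw [Subgroup.card_eq_card_quotient_mul_card_subgroup LD.enum.H, Nat.card_congr e, Nat.card_fin]
  exact (Nat.mul_le_mul_left _ hle).trans (by decide +kernel)

instance finite_grp : Finite Grp := finite_and_card_le.1

theorem isImg_of_word {n : ℕ} {φ : Grp →* Equiv.Perm (Fin n)} {tb : ℕ → ℕ}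
    (hφ : ∀ (w : List ℕ), (∀ x ∈ w, x < setup.k) → ∀ i : Fin n, ((φ (prodw setup.g w))⁻¹ i).val = walk tb w i)
    {w : List ℕ} {A d : ℕ} (hw : w.all (fun x => Nat.blt x 5) = true) (hd : n ≤ 2 ^ d)
    (h : allR (wordEntry n tb w A) d 0 = true) : IsImg φ A := by
  have hw' : ∀ x ∈ w, x < setup.k := fun x hx => by
    show x < 5; simpa using List.all_eq_true.1 hw x hx
  obtain ⟨y, -, hy⟩ := IsImgIn.of_word (φ := φ) (N := ⊤) (Subgroup.mem_top (prodw setup.g w)) (hφ w hw') hd h
  exact ⟨y, hy⟩

/-- The strong generators of level 0. -/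
noncomputable def tbs0 : ℕ → ℕ
  | 0 => A0_0
  | 1 => A0_1
  | 2 => A0_2
  | 3 => A0_3
  | 4 => A0_4
  | _ => 0

theorem words0 : ([w0_0, w0_1, w0_2, w0_3, w0_4] : List (List ℕ)).all
    (fun w => w.all (fun x => Nat.blt x 5)) = true := by decide +kernel

theorem entry0_0 : allR (wordEntry 280 LD.tb w0_0 A0_0) 9 0 = true := by decide +kernel

theorem entry0_1 : allR (wordEntry 280 LD.tb w0_1 A0_1) 9 0 = true := by decide +kernel

theorem entry0_2 : allR (wordEntry 280 LD.tb w0_2 A0_2) 9 0 = true := by decide +kernel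

theorem entry0_3 : allR (wordEntry 280 LD.tb w0_3 A0_3) 9 0 = true := by decide +kernel

theorem entry0_4 : allR (wordEntry 280 LD.tb w0_4 A0_4) 9 0 = true := by decide +kernel

theorem reach0 : reach tbs0 (fun s => if s < 5 then [s] else []) 9 L0S 4 = L0R := by
  decide +kernel

theorem count0 : cntR (fun j => bit L0R j) 9 0 = 280 := by decide +kernel

theorem bound0 : L0R < 2 ^ 280 := by decide +kernel

/-- The strong generators of level 1. -/
noncomputable def tbs1 : ℕ → ℕ
  | 0 => A1_0
  | 1 => A1_1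
  | 2 => A1_2
  | 3 => A1_3
  | _ => 0

theorem words1 : ([w1_0, w1_1, w1_2, w1_3] : List (List ℕ)).all
    (fun w => w.all (fun x => Nat.blt x 5)) = true := by decide +kernel

theorem entry1_0 : allR (wordEntry 280 LD.tb w1_0 A1_0) 9 0 = true := by decide +kernel

theorem entry1_1 : allR (wordEntry 280 LD.tb w1_1 A1_1) 9 0 = true := by decide +kernel

theorem entry1_2 : allR (wordEntry 280 LD.tb w1_2 A1_2) 9 0 = true := by decide +kernel

theorem entry1_3 : allR (wordEntry 280 LD.tb w1_3 A1_3) 9 0 = true := by decide +kernel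

theorem reach1 : reach tbs1 (fun s => if s < 4 then [s] else []) 8 L1S 2 = L1R := by
  decide +kernel

theorem count1 : cntR (fun j => bit L1R j) 9 0 = 135 := by decide +kernel

theorem bound1 : L1R < 2 ^ 280 := by decide +kernel

/-- The strong generators of level 2. -/
noncomputable def tbs2 : ℕ → ℕ
  | 0 => A2_0
  | 1 => A2_1
  | _ => 0

theorem words2 : ([w2_0, w2_1] : List (List ℕ)).all
    (fun w => w.all (fun x => Nat.blt x 5)) = true := by decide +kernel

theorem entry2_0 : allR (wordEntry 280 LD.tb w2_0 A2_0) 9 0 = true := by decide +kernel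

theorem entry2_1 : allR (wordEntry 280 LD.tb w2_1 A2_1) 9 0 = true := by decide +kernel

theorem reach2 : reach tbs2 (fun s => if s < 2 then [s] else []) 2 L2S 0 = L2R := by
  decide +kernel

theorem count2 : cntR (fun j => bit L2R j) 9 0 = 4 := by decide +kernel

theorem bound2 : L2R < 2 ^ 280 := by decide +kernel

/-- The strong generators of level 3. -/
noncomputable def tbs3 : ℕ → ℕ
  | 0 => A3_0
  | 1 => A3_1
  | _ => 0

theorem words3 : ([w3_0, w3_1] : List (List ℕ)).all
    (fun w => w.all (fun x => Nat.blt x 5)) = true := by decide +kernel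

theorem entry3_0 : allR (wordEntry 280 LD.tb w3_0 A3_0) 9 0 = true := by decide +kernel

theorem entry3_1 : allR (wordEntry 280 LD.tb w3_1 A3_1) 9 0 = true := by decide +kernel

theorem reach3 : reach tbs3 (fun s => if s < 2 then [s] else []) 2 L3S 3 = L3R := by
  decide +kernel

theorem count3 : cntR (fun j => bit L3R j) 9 0 = 4 := by decide +kernel

theorem bound3 : L3R < 2 ^ 280 := by decide +kernel

theorem card_range_ge_order (φ : Grp →* Equiv.Perm (Fin LD.enum.n))
    (hφ : ∀ (w : List ℕ), (∀ x ∈ w, x < setup.k) → ∀ i : Fin LD.enum.n,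
      ((φ (prodw setup.g w))⁻¹ i).val = walk LD.enum.tb w i) :
    604800 ≤ Nat.card φ.range := by
  refine card_range_ge φ _ ?_
  have h4 : 1 ≤ Nat.card (fixK φ [3, 0, 2, 4]) := one_le_card_fixK φ _
  have h3 : 4 ≤ Nat.card (fixK φ [0, 2, 4]) := by
    refine le_trans (by norm_num) (level (φ := φ) tbs3 (d := 9) (by decide +kernel) (show 3 < LD.enum.n by decide +kernel)
      (fun s hs => ?_) (fun s hs => ?_) reach3 count3 bound3 h4)
    · interval_cases s
      · exact isImg_of_word hφ (w := w3_0) (List.all_eq_true.1 words3 _ (by simp)) (d := 9) (by decide +kernel) entry3_0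
      · exact isImg_of_word hφ (w := w3_1) (List.all_eq_true.1 words3 _ (by simp)) (d := 9) (by decide +kernel) entry3_1
    · interval_cases s <;> decide +kernel
  have h2 : 16 ≤ Nat.card (fixK φ [2, 4]) := by
    refine le_trans (by norm_num) (level (φ := φ) tbs2 (d := 9) (by decide +kernel) (show 0 < LD.enum.n by decide +kernel)
      (fun s hs => ?_) (fun s hs => ?_) reach2 count2 bound2 h3)
    · interval_cases s
      · exact isImg_of_word hφ (w := w2_0) (List.all_eq_true.1 words2 _ (by simp)) (d := 9) (by decide +kernel) entry2_0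
      · exact isImg_of_word hφ (w := w2_1) (List.all_eq_true.1 words2 _ (by simp)) (d := 9) (by decide +kernel) entry2_1
    · interval_cases s <;> decide +kernel
  have h1 : 2160 ≤ Nat.card (fixK φ [4]) := by
    refine le_trans (by norm_num) (level (φ := φ) tbs1 (d := 9) (by decide +kernel) (show 2 < LD.enum.n by decide +kernel)
      (fun s hs => ?_) (fun s hs => ?_) reach1 count1 bound1 h2)
    · interval_cases s
      · exact isImg_of_word hφ (w := w1_0) (List.all_eq_true.1 words1 _ (by simp)) (d := 9) (by decide +kernel) entry1_0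
      · exact isImg_of_word hφ (w := w1_1) (List.all_eq_true.1 words1 _ (by simp)) (d := 9) (by decide +kernel) entry1_1
      · exact isImg_of_word hφ (w := w1_2) (List.all_eq_true.1 words1 _ (by simp)) (d := 9) (by decide +kernel) entry1_2
      · exact isImg_of_word hφ (w := w1_3) (List.all_eq_true.1 words1 _ (by simp)) (d := 9) (by decide +kernel) entry1_3
    · interval_cases s <;> decide +kernel
  have h0 : 604800 ≤ Nat.card (fixK φ []) := by
    refine le_trans (by norm_num) (level (φ := φ) tbs0 (d := 9) (by decide +kernel) (show 4 < LD.enum.n by decide +kernel)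
      (fun s hs => ?_) (fun s hs => ?_) reach0 count0 bound0 h1)
    · interval_cases s
      · exact isImg_of_word hφ (w := w0_0) (List.all_eq_true.1 words0 _ (by simp)) (d := 9) (by decide +kernel) entry0_0
      · exact isImg_of_word hφ (w := w0_1) (List.all_eq_true.1 words0 _ (by simp)) (d := 9) (by decide +kernel) entry0_1
      · exact isImg_of_word hφ (w := w0_2) (List.all_eq_true.1 words0 _ (by simp)) (d := 9) (by decide +kernel) entry0_2
      · exact isImg_of_word hφ (w := w0_3) (List.all_eq_true.1 words0 _ (by simp)) (d := 9) (by decide +kernel) entry0_3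
      · exact isImg_of_word hφ (w := w0_4) (List.all_eq_true.1 words0 _ (by simp)) (d := 9) (by decide +kernel) entry0_4
    · interval_cases s <;> decide +kernel
  exact h0

/-- The coset action is faithful and the group has order 604800. -/
theorem order_and_action :
    ∃ (φ : Grp →* Equiv.Perm (Fin LD.enum.n)) (e : Grp ⧸ LD.enum.H ≃ Fin LD.enum.n),
      (∀ (w : List ℕ), (∀ x ∈ w, x < setup.k) → ∀ i : Fin LD.enum.n,
        ((φ (prodw setup.g w))⁻¹ i).val = walk LD.enum.tb w i) ∧
      (∀ (y : Grp) (q : Grp ⧸ LD.enum.H), e (y • q) = φ y (e q)) ∧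
      e ((1 : Grp) : Grp ⧸ LD.enum.H) = 0 ∧
      Function.Injective φ ∧ Nat.card Grp = 604800 := by
  obtain ⟨φ, e, hφ, he, he0⟩ := LD.action
  obtain ⟨hcard, hinj⟩ := card_eq_and_injective (φ := φ) finite_and_card_le.2 (card_range_ge_order φ hφ)
  exact ⟨φ, e, hφ, he, he0, hinj, hcard⟩

theorem card_grp : Nat.card Grp = 604800 := by
  obtain ⟨-, -, -, -, -, -, h⟩ := order_and_action
  exact h

/-- The suborbits on 280 points. -/
noncomputable def HRs : List ℕ := [HR0, HR1, HR2]

theorem hcover : allR (fun i => bif Nat.blt i 280 then memberOf HRs (2 ^ HRs.length - 1) i else true) 9 0 = true := by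
  decide +kernel

theorem hblock : (List.range 8).all (fun m => noBlock 280 9 HRs m) = true := by decide +kernel

/-- The stabiliser words on 280 points. -/
def HW : List (List ℕ) := [[0], [1], [2], [3]]

theorem hreach0 : reach LD.tb (fun s => HW.getD s []) 6 HS0 1 = HR0 := by decide +kernel

theorem hreach1 : reach LD.tb (fun s => HW.getD s []) 8 HS1 22 = HR1 := by decide +kernel

theorem hreach2 : reach LD.tb (fun s => HW.getD s []) 7 HS2 43 = HR2 := by decide +kernel

theorem maximal (φ : Grp →* Equiv.Perm (Fin LD.enum.n)) (e : Grp ⧸ LD.enum.H ≃ Fin LD.enum.n)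
    (hφ : ∀ (w : List ℕ), (∀ x ∈ w, x < setup.k) → ∀ i : Fin LD.enum.n,
      ((φ (prodw setup.g w))⁻¹ i).val = walk LD.enum.tb w i)
    (he : ∀ (y : Grp) (q : Grp ⧸ LD.enum.H), e (y • q) = φ y (e q))
    (he0 : e ((1 : Grp) : Grp ⧸ LD.enum.H) = 0) {K : Subgroup Grp} (hK : LD.enum.H ≤ K) :
    K = LD.enum.H ∨ K = ⊤ := by
  refine eq_or_eq_top_of_le φ e he he0 HRs ?_ (d := 9) (by decide +kernel) hcover
    (fun m hm => List.all_eq_true.1 hblock m (List.mem_range.2 hm)) hK
  have key : ∀ (dR steps i R : ℕ) (hi : i < 280), reach LD.tb (fun s => HW.getD s []) dR steps i = R →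
      ∀ j, bit R j = true → ∃ h ∈ LD.enum.H, ((φ h)⁻¹ (⟨i, hi⟩ : Fin LD.enum.n)).val = j :=
    fun dR steps i R hi hR => reach_mem (φ := φ) (tb := LD.tb) (fun s => HW.getD s []) 4
      (fun s => prodw setup.g (HW.getD s [])) (fun s hs => Subgroup.subset_closure (k := (fun s => prodw setup.g (LD.enum.sW.getD s [])) '' {s | s < LD.enum.sW.length}) ⟨s, hs, rfl⟩)
      (fun s hs => hφ _ (by interval_cases s <;> decide))
      (fun s hs => List.getD_eq_default _ _ hs) (⟨i, hi⟩ : Fin LD.enum.n) hR
  intro o ho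
  have ho' : o < 3 := ho
  interval_cases o
  · exact ⟨⟨1, by decide +kernel⟩, key 6 HS0 1 HR0 (by decide) hreach0⟩
  · exact ⟨⟨22, by decide +kernel⟩, key 8 HS1 22 HR1 (by decide) hreach1⟩
  · exact ⟨⟨43, by decide +kernel⟩, key 7 HS2 43 HR2 (by decide) hreach2⟩

/-- A word for each letter: `u x` and `u x` followed by `x` have order seven. -/
def sevenW : List (List ℕ) := [u0, u1, u2, u3, u4]

theorem seven : (List.range 5).all (fun x =>
    (sevenW.getD x []).all (fun y => Nat.blt y 5) &&
    allR (sameWord 280 LD.tb (List.replicate 7 (sevenW.getD x [])).flatten []) 9 0 &&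
    allR (sameWord 280 LD.tb (List.replicate 7 (sevenW.getD x [] ++ [x])).flatten []) 9 0 &&
    (!Nat.beq (walk LD.tb (sevenW.getD x []) 0) 0 || !Nat.beq (walk LD.tb (sevenW.getD x []) 1) 1) &&
    (!Nat.beq (walk LD.tb (sevenW.getD x [] ++ [x]) 0) 0 || !Nat.beq (walk LD.tb (sevenW.getD x [] ++ [x]) 1) 1)) = true := by
  decide +kernel

theorem factorization_seven : Nat.factorization 604800 7 = 1 := by
  rw [show 604800 = 7 ^ 1 * 86400 by norm_num, Nat.factorization_mul (by norm_num) (by norm_num),
    Nat.Prime.factorization_pow (by norm_num)]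
  simp [Nat.factorization_eq_zero_of_not_dvd (show ¬ 7 ∣ 86400 by decide +kernel)]

theorem normal_eq_top (N : Subgroup Grp) [N.Normal] (hN : N ≠ ⊥) : N = ⊤ := by
  obtain ⟨φ, e, hφ, he, he0, hinj, hcard⟩ := order_and_action
  have hpN : 7 ∣ Nat.card N := (show 7 ∣ 280 by decide).trans
    (dvd_card_normal e he hinj (fun K hK => maximal φ e hφ he he0 hK) N hN)
  haveI : _root_.Fact (Nat.Prime 7) := ⟨by norm_num⟩
  rw [eq_top_iff, ← setup.letSub_all (List.range 5) (fun x hx => List.mem_range.mpr hx)]
  refine (Subgroup.closure_le _).mpr ?_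
  rintro _ ⟨x, hx, rfl⟩
  have h := List.all_eq_true.1 seven x hx
  simp only [Bool.and_eq_true, List.all_eq_true, Nat.blt_eq] at h
  obtain ⟨⟨⟨⟨hu, h1⟩, h2⟩, h3⟩, h4⟩ := h
  set u := sevenW.getD x []
  have hx5 : x < 5 := List.mem_range.1 hx
  have hux : ∀ y ∈ u ++ [x], y < 5 := fun y hy => by
    rcases List.mem_append.1 hy with hy | hy
    · exact hu y hy
    · rw [List.mem_singleton.1 hy]; exact hx5
  have mem : ∀ w : List ℕ, (∀ y ∈ w, y < 5) →
      allR (sameWord 280 LD.tb (List.replicate 7 w).flatten []) 9 0 = true →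
      (!Nat.beq (walk LD.tb w 0) 0 || !Nat.beq (walk LD.tb w 1) 1) = true → prodw setup.g w ∈ N := by
    intro w hw hp hm
    have hpow : prodw setup.g w ^ 7 = 1 := by
      rw [← prodw_replicate, ← prodw_nil setup.g]
      refine prodw_eq_of_sameWord hinj hφ _ _ (fun a ha => ?_) (fun a ha => absurd ha List.not_mem_nil)
        (show 280 ≤ 2 ^ 9 by decide) hp
      obtain ⟨l, hl, hal⟩ := List.mem_flatten.1 ha
      exact hw a ((List.mem_replicate.1 hl).2 ▸ hal)
    have hne : prodw setup.g w ≠ 1 := by
      simp only [Bool.or_eq_true, Bool.not_eq_true'] at hm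
      rcases hm with hm | hm
      · exact prodw_ne_one_of_moves hφ w hw 0 (show 0 < 280 by decide) hm
      · exact prodw_ne_one_of_moves hφ w hw 1 (show 1 < 280 by decide) hm
    exact mem_normal_of_prime (orderOf_eq_prime hpow hne) (by rw [hcard]; exact factorization_seven) N hpN
  have hm := N.mul_mem (N.inv_mem (mem u hu h1 h3)) (mem (u ++ [x]) hux h2 h4)
  rw [prodw_append, inv_mul_cancel_left] at hm
  simpa [prodw] using hm

theorem isSimpleGroup_grp : IsSimpleGroup Grp := by
  have hne : Nontrivial Grp := Finite.one_lt_card_iff_nontrivial.mp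
    (lt_of_lt_of_eq (show (1 : ℕ) < _ by norm_num) card_grp.symm)
  exact { toNontrivial := hne
          eq_bot_or_eq_top_of_normal := fun N hN => (em (N = ⊥)).imp id fun h => @normal_eq_top N hN h }

end CfsgLib.J2Model
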