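import Cfsg.Agent.PresentedOut.Centraliser

/-!
# A centraliser search helped by an orbit of pairs

Pair profiles cannot tell a group from an extension of it with the same orbitals. The orbit of one
pair of base points under the stabiliser of the point `0` can: it is recorded as a bit set, closed
under the stabiliser's generators.
-/

set_option autoImplicit false

namespace CfsgLib.J2Model.OutBase

open CfsgLib.CosetEnum CfsgLib.PresentedOut

noncomputable section

/-- The bit set is closed under the given words, as a set of pairs. -/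
def closedPairs (n : ℕ) (tb : ℕ → ℕ) (sW : List (List ℕ)) (O d : ℕ) : Bool :=
  allR (fun i => bif Nat.blt i n then
    allR (fun j => bif Nat.blt j n && bit O (n * i + j) then
      sW.all fun w => bit O (n * walk tb w i + walk tb w j) else true) d 0 else true) d 0

/-- The point is the only one with its classes seen from the given points. -/
def uniquePt (n : ℕ) (R : ℕ → ℕ → ℕ) (d : ℕ) (S : List ℕ) (p : ℕ) : Bool :=
  allR (fun q => bif Nat.blt q n then Nat.beq q p || S.any fun f => !(Nat.beq (R f q) (R f p))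
    else true) d 0

/-- Each point of the chain is determined by earlier ones, and the goals are reached. -/
def chainOK (n : ℕ) (R : ℕ → ℕ → ℕ) (d : ℕ) : List ℕ → List (ℕ × List ℕ) → List ℕ → Bool
  | fixed, [], bs => bs.all (memN fixed)
  | fixed, (p, S) :: r, bs =>
    (S.all (memN fixed) && uniquePt n R d S p) && chainOK n R d (p :: fixed) r bs

/-- Necessary condition on the images of the first three base points. -/
def okTriple (n : ℕ) (tbS : ℕ → ℕ) (back : ℕ → List ℕ) (O q0 q1 q2 : ℕ) : Bool :=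
  !(Nat.beq (walk tbS (back q0) q0) 0) ||
    bit O (n * walk tbS (back q0) q1 + walk tbS (back q0) q2)

/-- Every compatible quadruple is the image of the base under a listed element. -/
def quadSearchP (R : ℕ → ℕ → ℕ) (U m b0 b1 b2 b3 : ℕ) (L0 L1 L2 L3 : List ℕ) (tb : ℕ → ℕ)
    (KW : List (List ℕ)) (P : ℕ → ℕ → ℕ → Bool) : Bool :=
  L0.all fun q0 => L1.all fun q1 => !(same R U m b0 b1 q0 q1) ||
    L2.all fun q2 => !(same R U m b0 b2 q0 q2 && same R U m b1 b2 q1 q2 && P q0 q1 q2) ||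
      L3.all fun q3 => !(same R U m b0 b3 q0 q3 && same R U m b1 b3 q1 q3 && same R U m b2 b3 q2 q3) ||
        KW.any fun w => Nat.beq (walk tb w b0) q0 && Nat.beq (walk tb w b1) q1 &&
          Nat.beq (walk tb w b2) q2 && Nat.beq (walk tb w b3) q3

variable {G : Type*} [Group G] {n : ℕ} {φ : G →* Equiv.Perm (Fin n)} {R : ℕ → ℕ → ℕ}

theorem fixed_of_chain {d : ℕ} (hd : n ≤ 2 ^ d) (hR : IsInvariant φ R) {z : G} {bs : List ℕ} :
    ∀ (r : List (ℕ × List ℕ)) (fixed : List ℕ), (∀ i : Fin n, i.val ∈ fixed → img φ z i = i) →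
      (∀ f ∈ fixed, f < n) → (∀ pS ∈ r, pS.1 < n) → chainOK n R d fixed r bs = true →
      ∀ i : Fin n, i.val ∈ bs → img φ z i = i := by
  have mem : ∀ {L : List ℕ} {q : ℕ}, memN L q = true → q ∈ L := fun h => by
    obtain ⟨a, ha, he⟩ := List.any_eq_true.mp h
    exact Nat.eq_of_beq_eq_true he ▸ ha
  intro r
  induction r with
  | nil =>
    intro fixed hz _ _ h i hi
    exact hz i (mem (List.all_eq_true.mp h _ hi))
  | cons pS r ih =>
    obtain ⟨p, S⟩ := pS
    intro fixed hz hlt hrlt h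
    simp only [chainOK, Bool.and_eq_true, List.all_eq_true] at h
    obtain ⟨⟨hS, hu⟩, hrest⟩ := h
    have hp : p < n := hrlt (p, S) List.mem_cons_self
    have hfix : img φ z ⟨p, hp⟩ = ⟨p, hp⟩ := by
      set q := img φ z ⟨p, hp⟩ with hq
      have h1 := allR_spec d 0 hu q.val (Nat.zero_le _) (by have := q.isLt; omega)
      rw [show Nat.blt q.val n = true by simp, cond_true, Bool.or_eq_true] at h1
      rcases h1 with h1 | h1
      · exact Fin.ext (Nat.eq_of_beq_eq_true h1)
      · exfalso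
        obtain ⟨f, hf, hne⟩ := List.any_eq_true.mp h1
        have hff := mem (hS f hf)
        have h2 := hR z ⟨f, hlt f hff⟩ ⟨p, hp⟩
        rw [hz ⟨f, hlt f hff⟩ hff, ← hq] at h2
        simp [h2] at hne
    refine ih (p :: fixed) (fun i hi => ?_) (fun f hf => ?_)
      (fun x hx => hrlt x (List.mem_cons_of_mem _ hx)) hrest
    · rcases List.mem_cons.mp hi with e | e
      · rwa [show i = ⟨p, hp⟩ from Fin.ext e]
      · exact hz i e
    · rcases List.mem_cons.mp hf with e | e
      · exact e ▸ hp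
      · exact hlt f e

/-- Points from which a base is determined form a base. -/
theorem isBase_of_chain {d : ℕ} (hd : n ≤ 2 ^ d) (hR : IsInvariant φ R) {old new : List ℕ}
    (hB : IsBase φ old) (hnew : ∀ f ∈ new, f < n) (r : List (ℕ × List ℕ))
    (hr : ∀ pS ∈ r, pS.1 < n) (h : chainOK n R d new r old = true) : IsBase φ new := by
  intro g k hgk
  have hz : ∀ i : Fin n, i.val ∈ old → img φ (g * k⁻¹) i = i :=
    fixed_of_chain hd hR r new (fun i hi => by rw [img_mul, hgk i hi, img_inv_img]) hnew hr h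
  have h1 : g * k⁻¹ = 1 := hB _ _ fun i hi => by rw [hz i hi, img_one]
  exact mul_inv_eq_one.mp h1

theorem pairs_closed [Finite G] {d : ℕ} (hd : n ≤ 2 ^ d) {sW : List (List ℕ)} {x : ℕ → G}
    {m : ℕ} {tb : ℕ → ℕ} (hx : HasTables φ x m tb) (hsW : ∀ w ∈ sW, ∀ a ∈ w, a < m) {O : ℕ}
    (hO : closedPairs n tb sW O d = true) {h : G}
    (hh : h ∈ Subgroup.closure {y | ∃ w ∈ sW, y = prodw x w}) :
    ∀ i j : Fin n, bit O (n * i + j) = true →
      bit O (n * (img φ h i).val + (img φ h j).val) = true := by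
  have hmul : ∀ a b : G,
      (∀ i j : Fin n, bit O (n * i + j) = true → bit O (n * (img φ a i).val + (img φ a j).val) = true) →
      (∀ i j : Fin n, bit O (n * i + j) = true → bit O (n * (img φ b i).val + (img φ b j).val) = true) →
      ∀ i j : Fin n, bit O (n * i + j) = true →
        bit O (n * (img φ (a * b) i).val + (img φ (a * b) j).val) = true := by
    intro a b ha hb i j hij
    rw [img_mul, img_mul]
    exact hb _ _ (ha i j hij)
  have hone : ∀ i j : Fin n, bit O (n * i + j) = true →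
      bit O (n * (img φ 1 i).val + (img φ 1 j).val) = true := by
    intro i j hij; rwa [img_one, img_one]
  induction hh using Subgroup.closure_induction with
  | mem y hy =>
    obtain ⟨w, hw, rfl⟩ := hy
    intro i j hij
    rw [img_prodw hx w (hsW w hw), img_prodw hx w (hsW w hw)]
    have h1 := allR_spec d 0 hO i.val (Nat.zero_le _) (by have := i.isLt; omega)
    rw [show Nat.blt i.val n = true by simp, cond_true] at h1
    have h2 := allR_spec d 0 h1 j.val (Nat.zero_le _) (by have := j.isLt; omega)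
    rw [show Nat.blt j.val n = true by simp, hij, Bool.and_self, cond_true] at h2
    exact List.all_eq_true.mp h2 w hw
  | one => exact hone
  | mul a b _ _ ha hb => exact hmul a b ha hb
  | inv a _ ha =>
    have hpow : ∀ k : ℕ, ∀ i j : Fin n, bit O (n * i + j) = true →
        bit O (n * (img φ (a ^ k) i).val + (img φ (a ^ k) j).val) = true := by
      intro k
      induction k with
      | zero => rw [pow_zero]; exact hone
      | succ k ihk => rw [pow_succ]; exact hmul _ _ ihk ha
    have hi : a⁻¹ = a ^ (orderOf a - 1) := by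
      refine inv_eq_of_mul_eq_one_right ?_
      rw [← pow_succ', Nat.sub_add_cancel (orderOf_pos a), pow_orderOf_eq_one]
    rw [hi]
    exact hpow _

/-- **The centraliser of an element is among the listed words.** -/
theorem exists_eq_of_commute {d : ℕ} (hd : n ≤ 2 ^ d) (hR : IsInvariant φ R)
    {b0 b1 b2 b3 : ℕ} (hB : IsBase φ [b0, b1, b2, b3]) (hb0 : b0 < n) (hb1 : b1 < n) (hb2 : b2 < n)
    (hb3 : b3 < n) {x : ℕ → G} {k : ℕ} {tb : ℕ → ℕ} (hx : HasTables φ x k tb) {c : ℕ} (hc : c < k)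
    {L0 L1 L2 L3 : List ℕ} {KW : List (List ℕ)} (hKW : ∀ w ∈ KW, ∀ a ∈ w, a < k) {m : ℕ}
    {P : ℕ → ℕ → ℕ → Bool}
    (hP : ∀ g : G, P (img φ g ⟨b0, hb0⟩).val (img φ g ⟨b1, hb1⟩).val (img φ g ⟨b2, hb2⟩).val = true)
    (h0 : allR (profEntry R n (tb c) m b0 L0) d 0 = true)
    (h1 : allR (profEntry R n (tb c) m b1 L1) d 0 = true)
    (h2 : allR (profEntry R n (tb c) m b2 L2) d 0 = true)
    (h3 : allR (profEntry R n (tb c) m b3 L3) d 0 = true)
    (hs : quadSearchP R (tb c) m b0 b1 b2 b3 L0 L1 L2 L3 tb KW P = true)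
    {g : G} (hg : Commute g (x c)) : ∃ w ∈ KW, g = prodw x w := by
  have hU : ∀ i : Fin n, (img φ (x c) i).val = ext (tb c) i := hx c hc
  have hsame := same_of_commute hR hg hU m
  have hmem : ∀ {b : ℕ} {L : List ℕ} (hb : b < n), allR (profEntry R n (tb c) m b L) d 0 = true →
      ∃ q ∈ L, q = (img φ g ⟨b, hb⟩).val := by
    intro b L hb h
    have h' := allR_spec d 0 h (img φ g ⟨b, hb⟩).val (Nat.zero_le _)
      (by have := (img φ g ⟨b, hb⟩).isLt; omega)
    unfold profEntry at h'
    rw [show Nat.blt (img φ g ⟨b, hb⟩).val n = true by simp, cond_true] at h'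
    have hp := hsame ⟨b, hb⟩ (img φ (x c) ⟨b, hb⟩)
    rw [← img_mul, ← hg.eq, img_mul, hU, hU] at hp
    rw [hp, Bool.not_true, Bool.false_or, memN, List.any_eq_true] at h'
    obtain ⟨q, hq, he⟩ := h'
    exact ⟨q, hq, Nat.eq_of_beq_eq_true he⟩
  obtain ⟨q0, m0, e0⟩ := hmem hb0 h0
  obtain ⟨q1, m1, e1⟩ := hmem hb1 h1
  obtain ⟨q2, m2, e2⟩ := hmem hb2 h2
  obtain ⟨q3, m3, e3⟩ := hmem hb3 h3
  simp only [quadSearchP, List.all_eq_true, Bool.or_eq_true, Bool.not_eq_true'] at hs
  have s01 := hsame ⟨b0, hb0⟩ ⟨b1, hb1⟩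
  have s02 := hsame ⟨b0, hb0⟩ ⟨b2, hb2⟩
  have s03 := hsame ⟨b0, hb0⟩ ⟨b3, hb3⟩
  have s12 := hsame ⟨b1, hb1⟩ ⟨b2, hb2⟩
  have s13 := hsame ⟨b1, hb1⟩ ⟨b3, hb3⟩
  have s23 := hsame ⟨b2, hb2⟩ ⟨b3, hb3⟩
  have sP := hP g
  simp only [← e0, ← e1, ← e2, ← e3] at s01 s02 s03 s12 s13 s23 sP
  have t1 := (hs q0 m0 q1 m1).resolve_left (by rw [s01]; simp)
  have t2 := (t1 q2 m2).resolve_left (by rw [s02, s12, sP]; simp)
  have t3 := (t2 q3 m3).resolve_left (by rw [s03, s13, s23]; simp)
  simp only [List.any_eq_true, Bool.and_eq_true] at t3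
  obtain ⟨w, hw, ⟨⟨⟨w0, w1⟩, w2⟩, w3⟩⟩ := t3
  refine ⟨w, hw, hB _ _ fun i hi => Fin.ext ?_⟩
  rw [img_prodw hx w (hKW w hw)]
  simp only [List.mem_cons, List.not_mem_nil, or_false] at hi
  rcases hi with h | h | h | h
  · rw [show i = ⟨b0, hb0⟩ from Fin.ext h, ← e0]; exact (Nat.eq_of_beq_eq_true w0).symm
  · rw [show i = ⟨b1, hb1⟩ from Fin.ext h, ← e1]; exact (Nat.eq_of_beq_eq_true w1).symm
  · rw [show i = ⟨b2, hb2⟩ from Fin.ext h, ← e2]; exact (Nat.eq_of_beq_eq_true w2).symm
  · rw [show i = ⟨b3, hb3⟩ from Fin.ext h, ← e3]; exact (Nat.eq_of_beq_eq_true w3).symm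

end

end CfsgLib.J2Model.OutBase
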