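import Cfsg.Agent.J2Model.Order
import Cfsg.Agent.PresentedOut.Criterion
import Cfsg.Agent.J2Model.OutBase
import Cfsg.Agent.J2Model.OutData

/-! Kernel checks for the triple in the presented group on `a, …, e`. -/

set_option autoImplicit false
set_option maxRecDepth 100000
set_option exponentiation.threshold 200000
set_option Elab.async false

namespace CfsgLib.J2Model.OutChecks

open CfsgLib.CosetEnum CfsgLib.PresentedOut CfsgLib.J2Model.OutData CfsgLib.J2Model.OutBase

/-- The invariant relation on pairs of cosets. -/
noncomputable def R (i j : ℕ) : ℕ := rel LD.tb LD.parN LD.parX classes 25 i j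

/-- The word leading a listed point back to `0`. -/
def back (q : ℕ) : List ℕ := ((backL.find? fun p => Nat.beq p.1 q).getD (0, [])).2

theorem down_ok : allR (fun i => bif Nat.blt i 280 then down LD.parN 25 i else true) 9 0 = true := by decide +kernel

theorem cls_ok : allR (clsEntry 280 LD.tb LD.enum.sW classes) 9 0 = true := by decide +kernel

theorem table0 : allR (wordEntry 280 LD.tb (W.getD 0 []) t0) 9 0 = true := by decide +kernel

theorem table1 : allR (wordEntry 280 LD.tb (W.getD 1 []) t1) 9 0 = true := by decide +kernel

theorem table2 : allR (wordEntry 280 LD.tb (W.getD 2 []) t2) 9 0 = true := by decide +kernel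

theorem table3 : allR (wordEntry 280 LD.tb (W.getD 3 []) t3) 9 0 = true := by decide +kernel

theorem closedA : closedPairs 280 LD.tb [[0], [1], [2], [3]] orbA 9 = true := by decide +kernel

theorem closedB : closedPairs 280 LD.tb [[0], [1], [2], [3]] orbB 9 = true := by decide +kernel

theorem memA : bit orbA (280 * 84 + 168) = true := by decide +kernel

theorem memB : bit orbB (280 * 126 + 24) = true := by decide +kernel

theorem backLt : backL.all (fun p => p.2.all fun a => Nat.blt a 5) = true := by decide +kernel

theorem chainA_ok : chainOK 280 R 9 [0, 84, 168, 247] chainA [4, 2, 0, 3] = true := by decide +kernel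

theorem chainB_ok : chainOK 280 R 9 [0, 126, 24, 135] chainB [4, 2, 0, 3] = true := by decide +kernel

theorem profA0 : allR (profEntry R 280 (tb 0) 7 0 LA0) 9 0 = true := by decide +kernel

theorem profA1 : allR (profEntry R 280 (tb 0) 7 84 LA1) 9 0 = true := by decide +kernel

theorem profA2 : allR (profEntry R 280 (tb 0) 7 168 LA2) 9 0 = true := by decide +kernel

theorem profA3 : allR (profEntry R 280 (tb 0) 7 247 LA3) 9 0 = true := by decide +kernel

theorem searchA : quadSearchP R (tb 0) 7 0 84 168 247 LA0 LA1 LA2 LA3 tb KA
    (okTriple 280 LD.tb back orbA) = true := by decide +kernel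

theorem profB0 : allR (profEntry R 280 (tb 1) 6 0 LB0) 9 0 = true := by decide +kernel

theorem profB1 : allR (profEntry R 280 (tb 1) 6 126 LB1) 9 0 = true := by decide +kernel

theorem profB2 : allR (profEntry R 280 (tb 1) 6 24 LB2) 9 0 = true := by decide +kernel

theorem profB3 : allR (profEntry R 280 (tb 1) 6 135 LB3) 9 0 = true := by decide +kernel

theorem searchB : quadSearchP R (tb 1) 6 0 126 24 135 LB0 LB1 LB2 LB3 tb KW
    (okTriple 280 LD.tb back orbB) = true := by decide +kernel

end CfsgLib.J2Model.OutChecks
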