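import Cfsg.Agent.J2Model.OutChecks
import Cfsg.Agent.J2Model.Map

/-! The presented group on `a, …, e` has exactly two classes of automorphisms modulo inner ones. -/

set_option autoImplicit false
set_option maxRecDepth 100000
set_option exponentiation.threshold 200000
set_option Elab.async false

namespace CfsgLib.J2Model.OutMain

open CfsgLib.CosetEnum CfsgLib.PresentedOut CfsgLib.J2Model.Data CfsgLib.J2Model.OutBase
open CfsgLib.J2Model.OutChecks CfsgLib.J2Model.OutData

theorem card_fixK_base (φ : Grp →* Equiv.Perm (Fin LD.enum.n))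
    (hφ : ∀ (w : List ℕ), (∀ x ∈ w, x < setup.k) → ∀ i : Fin LD.enum.n,
      ((φ (prodw setup.g w))⁻¹ i).val = walk LD.enum.tb w i) :
    Nat.card (fixK φ [3, 0, 2, 4]) ≤ 1 := by
  have h4 : Nat.card (fixK φ [3, 0, 2, 4]) ≤ Nat.card (fixK φ [3, 0, 2, 4]) := le_rfl
  have h3 : 4 * Nat.card (fixK φ [3, 0, 2, 4]) ≤ Nat.card (fixK φ [0, 2, 4]) := by
    refine le_trans (by ring_nf; exact le_rfl) (level (φ := φ) tbs3 (d := 9) (by decide +kernel) (show 3 < LD.enum.n by decide +kernel)
      (fun s hs => ?_) (fun s hs => ?_) reach3 count3 bound3 h4)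
    · interval_cases s
      · exact isImg_of_word hφ (w := w3_0) (List.all_eq_true.1 words3 _ (by simp)) (d := 9) (by decide +kernel) entry3_0
      · exact isImg_of_word hφ (w := w3_1) (List.all_eq_true.1 words3 _ (by simp)) (d := 9) (by decide +kernel) entry3_1
    · interval_cases s <;> decide +kernel
  have h2 : 16 * Nat.card (fixK φ [3, 0, 2, 4]) ≤ Nat.card (fixK φ [2, 4]) := by
    refine le_trans (by ring_nf; exact le_rfl) (level (φ := φ) tbs2 (d := 9) (by decide +kernel) (show 0 < LD.enum.n by decide +kernel)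
      (fun s hs => ?_) (fun s hs => ?_) reach2 count2 bound2 h3)
    · interval_cases s
      · exact isImg_of_word hφ (w := w2_0) (List.all_eq_true.1 words2 _ (by simp)) (d := 9) (by decide +kernel) entry2_0
      · exact isImg_of_word hφ (w := w2_1) (List.all_eq_true.1 words2 _ (by simp)) (d := 9) (by decide +kernel) entry2_1
    · interval_cases s <;> decide +kernel
  have h1 : 2160 * Nat.card (fixK φ [3, 0, 2, 4]) ≤ Nat.card (fixK φ [4]) := by
    refine le_trans (by ring_nf; exact le_rfl) (level (φ := φ) tbs1 (d := 9) (by decide +kernel) (show 2 < LD.enum.n by decide +kernel)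
      (fun s hs => ?_) (fun s hs => ?_) reach1 count1 bound1 h2)
    · interval_cases s
      · exact isImg_of_word hφ (w := w1_0) (List.all_eq_true.1 words1 _ (by simp)) (d := 9) (by decide +kernel) entry1_0
      · exact isImg_of_word hφ (w := w1_1) (List.all_eq_true.1 words1 _ (by simp)) (d := 9) (by decide +kernel) entry1_1
      · exact isImg_of_word hφ (w := w1_2) (List.all_eq_true.1 words1 _ (by simp)) (d := 9) (by decide +kernel) entry1_2
      · exact isImg_of_word hφ (w := w1_3) (List.all_eq_true.1 words1 _ (by simp)) (d := 9) (by decide +kernel) entry1_3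
    · interval_cases s <;> decide +kernel
  have h0 : 604800 * Nat.card (fixK φ [3, 0, 2, 4]) ≤ Nat.card (fixK φ []) := by
    refine le_trans (by ring_nf; exact le_rfl) (level (φ := φ) tbs0 (d := 9) (by decide +kernel) (show 4 < LD.enum.n by decide +kernel)
      (fun s hs => ?_) (fun s hs => ?_) reach0 count0 bound0 h1)
    · interval_cases s
      · exact isImg_of_word hφ (w := w0_0) (List.all_eq_true.1 words0 _ (by simp)) (d := 9) (by decide +kernel) entry0_0
      · exact isImg_of_word hφ (w := w0_1) (List.all_eq_true.1 words0 _ (by simp)) (d := 9) (by decide +kernel) entry0_1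
      · exact isImg_of_word hφ (w := w0_2) (List.all_eq_true.1 words0 _ (by simp)) (d := 9) (by decide +kernel) entry0_2
      · exact isImg_of_word hφ (w := w0_3) (List.all_eq_true.1 words0 _ (by simp)) (d := 9) (by decide +kernel) entry0_3
      · exact isImg_of_word hφ (w := w0_4) (List.all_eq_true.1 words0 _ (by simp)) (d := 9) (by decide +kernel) entry0_4
    · interval_cases s <;> decide +kernel
  have h5 := card_range_ge φ _ h0
  have h6 : Nat.card φ.range ≤ 604800 :=
    card_grp ▸ Nat.card_le_card_of_surjective _ φ.rangeRestrict_surjective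
  omega

theorem gensW : ∀ v ∈ W, ∀ a ∈ v, a < 5 := by decide +kernel

theorem kwLt : ∀ w ∈ KW, ∀ a ∈ w, a < 4 := by decide +kernel

theorem moveOK : ∀ k < 7, k = 0 ∨ ∃ j < 7, k * 3 ^ j % 7 ∈ [1] := by decide +kernel

theorem gwsLt : ∀ i < 5, ∀ a ∈ gws.getD i [], a < 3 := by decide +kernel

theorem gwsOK : ∀ i < 5, sameTwo LD.tb tb [4, 2, 0, 3] [i] (gws.getD i []) = true := by decide +kernel

theorem relsLt : ∀ v ∈ rels, ∀ a ∈ v, a < 3 := by decide +kernel

theorem relsOK : ∀ v ∈ rels, sameOn tb [4, 2, 0, 3] v [] = true := by decide +kernel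

theorem w0Mem : [1, 1, 1] ∈ KW := by decide +kernel

theorem imageOK : ∀ k ∈ [1], ∀ w ∈ KW, okImage tb [4, 2, 0, 3] rels 1 [1, 1, 1] k w = true := by
  decide +kernel

theorem piWords : ∀ v ∈ setup.words,
    sameOn tb [4, 2, 0, 3] (subst 1 [1, 1, 1] (v.flatMap fun i => gws.getD i [])) [] = true := by
  decide +kernel

theorem piTriple : ∀ i < 3, sameOn tb [4, 2, 0, 3]
    (subst 1 [1, 1, 1] ((W.getD i []).flatMap fun i => gws.getD i [])) (img3 1 [1, 1, 1] i) = true := by
  decide +kernel

theorem sepOK : ∀ w ∈ KW, sepWord tb [4, 2, 0, 3] 1 [1, 1, 1] w = true := by decide +kernel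

theorem back_lt (q : ℕ) : ∀ a ∈ back q, a < 5 := by
  intro a ha
  unfold back at ha
  cases hf : backL.find? fun p => Nat.beq p.1 q with
  | none => rw [hf] at ha; simp at ha
  | some p =>
    rw [hf] at ha
    simpa using List.all_eq_true.1 (List.all_eq_true.1 backLt p (List.mem_of_find?_eq_some hf)) a ha

theorem card_out_grp : Nat.card (Cfsg.Out Grp) = 2 := by
  classical
  haveI : IsSimpleGroup Grp := isSimpleGroup_grp
  obtain ⟨φ, e, hφ, he, he0, hinj, hcard⟩ := order_and_action
  have hfix := card_fixK_base φ hφ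
  have hbs : ∀ i ∈ [4, 2, 0, 3], i < 280 := by decide
  have hB : IsBase φ [4, 2, 0, 3] := fun g h hgh =>
    isBase_of_card hinj hfix g h fun i hi => hgh i (by
      simp only [List.mem_cons, List.not_mem_nil, or_false] at hi ⊢; tauto)
  have hS : HasTables φ setup.g setup.k LD.tb := by
    intro k hk i
    have h := hφ [k] (by simpa using hk) i
    rw [show prodw setup.g [k] = setup.g k by simp [prodw]] at h
    exact h
  let x : ℕ → Grp := fun i => prodw setup.g (W.getD i [])
  have htab : ∀ (w : List ℕ) (A : ℕ), (∀ a ∈ w, a < 5) →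
      allR (wordEntry 280 LD.tb w A) 9 0 = true →
      ∀ i : Fin LD.enum.n, (img φ (prodw setup.g w) i).val = ext A i := by
    intro w A hw h i
    have hi : i.val < 280 := i.isLt
    have h1 := allR_spec 9 0 h i (Nat.zero_le _) (by norm_num; omega)
    unfold wordEntry at h1
    rw [show Nat.blt i.val 280 = true by simpa using hi, cond_true] at h1
    exact (hφ w hw i).trans (Nat.eq_of_beq_eq_true h1)
  have hx : HasTables φ x 4 tb := by
    intro k hk i
    interval_cases k
    · exact htab _ t0 (by decide +kernel) table0 i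
    · exact htab _ t1 (by decide +kernel) table1 i
    · exact htab _ t2 (by decide +kernel) table2 i
    · exact htab _ t3 (by decide +kernel) table3 i
  have hR : IsInvariant φ R :=
    isInvariant_rel (E := LD.enum) (d := 9) (show 280 ≤ 2 ^ 9 by norm_num) (show 0 < 280 by norm_num)
      hφ e he (by rw [he0]; rfl) LD.treeValid classes 25 down_ok cls_ok
  have hP : ∀ (O x1 x2 : ℕ) (h1 : x1 < 280) (h2 : x2 < 280),
      closedPairs 280 LD.tb [[0], [1], [2], [3]] O 9 = true → bit O (280 * x1 + x2) = true →
      ∀ g : Grp, okTriple 280 LD.tb back O (img φ g ⟨0, show 0 < 280 by norm_num⟩).val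
        (img φ g ⟨x1, h1⟩).val (img φ g ⟨x2, h2⟩).val = true := by
    intro O x1 x2 h1 h2 hcl hmem g
    set q0 := (img φ g ⟨0, show 0 < 280 by norm_num⟩).val with hq0
    unfold okTriple
    cases hb : Nat.beq (walk LD.tb (back q0) q0) 0
    · rfl
    rw [Bool.not_true, Bool.false_or]
    set v := back q0 with hv
    have hvlt : ∀ a ∈ v, a < setup.k := back_lt q0
    let y := g * prodw setup.g v
    have hy0 : img φ y ⟨0, show 0 < 280 by norm_num⟩ = ⟨0, show 0 < 280 by norm_num⟩ := by
      refine Fin.ext ?_
      show (img φ (g * prodw setup.g v) _).val = 0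
      rw [img_mul, img_prodw hS v hvlt]
      exact Nat.eq_of_beq_eq_true hb
    have hfix0 : φ y (e ((1 : Grp) : Grp ⧸ LD.enum.H)) = e ((1 : Grp) : Grp ⧸ LD.enum.H) := by
      rw [he0]
      exact (Equiv.Perm.inv_eq_iff_eq.mp hy0).symm
    have hyH : y ∈ LD.enum.H := by
      rw [← he] at hfix0
      have h3 := e.injective hfix0
      rw [MulAction.Quotient.smul_coe, smul_eq_mul, mul_one, QuotientGroup.eq] at h3
      simpa using h3
    have hyC : y ∈ Subgroup.closure {z | ∃ w ∈ [[0], [1], [2], [3]], z = prodw setup.g w} := by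
      refine Subgroup.closure_mono ?_ hyH
      rintro _ ⟨s, hs, rfl⟩
      exact ⟨LD.enum.sW.getD s [], by
        have hs' : s < 4 := hs
        interval_cases s <;> decide +kernel, rfl⟩
    have hp := pairs_closed (d := 9) (show 280 ≤ 2 ^ 9 by norm_num) hS (sW := [[0], [1], [2], [3]])
      (by decide +kernel) hcl hyC ⟨x1, h1⟩ ⟨x2, h2⟩ hmem
    have hwalk : ∀ i : Fin LD.enum.n, (img φ y i).val = walk LD.tb v (img φ g i).val := by
      intro i
      show (img φ (g * prodw setup.g v) i).val = _
      rw [img_mul, img_prodw hS v hvlt]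
    erw [hwalk ⟨x1, h1⟩, hwalk ⟨x2, h2⟩] at hp
    exact hp
  have eqw : ∀ v w : List ℕ, (∀ a ∈ v, a < 4) → (∀ a ∈ w, a < 4) →
      sameOn tb [4, 2, 0, 3] v w = true → prodw x v = prodw x w :=
    fun v w hv hw h => eq_of_sameOn hB hx hv hw h
  have hcA : ∀ g, Commute g (x 0) → ∃ i < 7, g = x 0 ^ i := by
    intro g hg
    obtain ⟨w, hw, rfl⟩ := exists_eq_of_commute (d := 9) (show 280 ≤ 2 ^ 9 by norm_num) hR
      (isBase_of_chain (d := 9) (show 280 ≤ 2 ^ 9 by norm_num) hR hB (new := [0, 84, 168, 247])
        (by decide +kernel) chainA (by decide +kernel) chainA_ok)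
      (show 0 < 280 by norm_num) (show 84 < 280 by norm_num) (show 168 < 280 by norm_num)
      (show 247 < 280 by norm_num) hx (c := 0) (by norm_num) (KW := KA) (by decide +kernel)
      (hP orbA 84 168 (by norm_num) (by norm_num) closedA memA)
      profA0 profA1 profA2 profA3 searchA hg
    have h7 : KA = (List.range 7).map fun i => List.replicate i 0 := by decide +kernel
    rw [h7] at hw
    obtain ⟨i, hi, rfl⟩ := List.mem_map.mp hw
    exact ⟨i, List.mem_range.mp hi, prodw_const x i 0⟩
  have hcB : ∀ g, Commute g (x 1) → ∃ w ∈ KW, g = prodw x w := fun g hg =>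
    exists_eq_of_commute (d := 9) (show 280 ≤ 2 ^ 9 by norm_num) hR
      (isBase_of_chain (d := 9) (show 280 ≤ 2 ^ 9 by norm_num) hR hB (new := [0, 126, 24, 135])
        (by decide +kernel) chainB (by decide +kernel) chainB_ok)
      (show 0 < 280 by norm_num) (show 126 < 280 by norm_num) (show 24 < 280 by norm_num)
      (show 135 < 280 by norm_num) hx (c := 1) (by norm_num) (KW := KW) (by decide +kernel)
      (hP orbB 126 24 (by norm_num) (by norm_num) closedB memB)
      profB0 profB1 profB2 profB3 searchB hg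
  let Rg : Rigid x KW :=
    { p := 7
      r := 3
      r' := 5
      s := 5
      hp := by norm_num
      hr := rfl
      pow_a := by
        have := eqw (List.replicate 7 0) [] (by decide) (by decide) (by decide +kernel)
        rwa [prodw_const, prodw_nil] at this
      a_ne := fun h => by
        have h' := sameOn_of_eq hbs hx (v := [0]) (w := []) (by decide) (by decide) (by simpa [prodw] using h)
        exact absurd h' (by decide +kernel)
      a_b := by
        have := eqw [0, 1] (1 :: List.replicate 3 0) (by decide) (by decide) (by decide +kernel)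
        rwa [prodw_cons, prodw_cons, prodw_nil, mul_one, prodw_cons, prodw_const] at this
      b_c := by
        have := eqw [1, 2] (2 :: List.replicate 5 1) (by decide) (by decide) (by decide +kernel)
        rwa [prodw_cons, prodw_cons, prodw_nil, mul_one, prodw_cons, prodw_const] at this
      sylow := by rw [hcard]; decide +kernel
      centA := hcA
      centB := hcB
      shift := by decide +kernel }
  exact card_out_eq_two (S := setup) (φ := φ) (tbS := LD.tb) (tb := tb)
    (bs := [4, 2, 0, 3]) hB hbs hS (W := W) gensW (m := 4) (by norm_num) (x := x)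
    (fun _ => rfl) hx (KW := KW) kwLt Rg [1] moveOK
    (fun i => gws.getD i []) gwsLt gwsOK rels relsLt relsOK 1 [1, 1, 1] w0Mem ⟨by norm_num [Rg], by norm_num⟩
    imageOK piWords piTriple sepOK

theorem card_out_congr {G H : Type*} [Group G] [Group H] (e : G ≃* H) :
    Nat.card (Cfsg.Out G) = Nat.card (Cfsg.Out H) := by
  refine Nat.card_congr (QuotientGroup.congr (Cfsg.Inn G) (Cfsg.Inn H) (MulAut.congr e) ?_).toEquiv
  have key : ∀ g, MulAut.congr e (MulAut.conj g) = MulAut.conj (e g) := fun g => by
    ext x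
    simp [MulAut.congr]
  ext φ
  constructor
  · rintro ⟨_, ⟨g, rfl⟩, rfl⟩
    exact ⟨e g, (key g).symm⟩
  · rintro ⟨g, rfl⟩
    exact ⟨_, ⟨e.symm g, rfl⟩, by simpa using key (e.symm g)⟩

theorem card_out_J2 : Nat.card (Cfsg.Out Cfsg.Spor.J2) = 2 :=
  (card_out_congr equivJ2.symm).trans card_out_grp

end CfsgLib.J2Model.OutMain
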