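import Cfsg.Agent.J2Model.Order
import Cfsg.Agent.J2Model.Cert.LE
import Cfsg.Agent.CosetEnum.Restrict
import Cfsg.Agent.SuzG2.Main

/-!
# A primitive constituent of `J₂` on the cosets of `J₂` in `G₂(4)`, from tables
-/

set_option autoImplicit false

namespace CfsgLib.J2Model

open CfsgLib.CosetEnum

noncomputable section

/-- `G₂(4)` as presented. -/
abbrev Big : Type := CfsgLib.SuzG2.setup.Grp

/-- The generators `a, …, e` inside the presented `G₂(4)`. -/
def toBigGen (a : Gen) : Big := CfsgLib.SuzG2.setup.g (ix a)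

theorem words_sub : setup.words.all (fun w => decide (w ∈ CfsgLib.SuzG2.setup.words)) = true := by
  decide +kernel

theorem prodw_toBigGen {w : List ℕ} (h : ∀ x ∈ w, x < 5) :
    prodw (toBigGen ∘ en) w = prodw CfsgLib.SuzG2.setup.g w := by
  unfold prodw
  refine congrArg List.prod (List.map_congr_left fun x hx => ?_)
  have := h x hx
  interval_cases x <;> rfl

theorem word_one {w : List ℕ} (hw : w ∈ setup.words) : prodw (toBigGen ∘ en) w = 1 := by
  have hlt : ∀ x ∈ w, x < 5 := by
    have h := List.all_eq_true.1 (show setup.words.all (fun w => w.all fun x => Nat.blt x 5) = true by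
      decide +kernel) w hw
    exact fun x hx => by simpa using List.all_eq_true.1 h x hx
  rw [prodw_toBigGen hlt]
  exact CfsgLib.SuzG2.setup.prod_mem _ (of_decide_eq_true (List.all_eq_true.1 words_sub w hw))

theorem toBigGen_sq (g : Gen) : toBigGen g * toBigGen g = 1 := CfsgLib.SuzG2.setup.of_sq _

theorem toBig_rels : ∀ r ∈ Cfsg.Spor.coxRelators edges ∪ {r | r ∈ extra},
    FreeGroup.lift toBigGen r = 1 := by
  rintro r (⟨x, -, y, -, rfl⟩ | hr)
  · have hp : ∀ x y, ix x ≤ ix y →
        (toBigGen x * toBigGen y) ^ Cfsg.Spor.coxLabel edges x y = 1 := by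
      intro x y hxy
      have := word_one (w := (List.replicate (Cfsg.Spor.coxLabel edges x y) [ix x, ix y]).flatten) (by
        show _ ∈ coxWords en 5 edges ++ exW
        refine List.mem_append_left _ (mem_coxWords.mpr
          ⟨ix x, ix y, setup.ix_lt x, setup.ix_lt y, hxy, ?_⟩)
        rw [show en (ix x) = x from setup.en_ix x, show en (ix y) = y from setup.en_ix y])
      rw [prodw_replicate] at this
      simpa [prodw, show ∀ g, en (ix g) = g from setup.en_ix] using this
    rw [map_pow, map_mul, FreeGroup.lift_apply_of, FreeGroup.lift_apply_of]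
    rcases le_total (ix x) (ix y) with h | h
    · exact hp x y h
    · have := hp y x h
      rw [coxLabel_symm] at this
      have e : toBigGen x * toBigGen y = (toBigGen y * toBigGen x)⁻¹ := by
        rw [_root_.mul_inv_rev, inv_eq_of_mul_eq_one_right (toBigGen_sq x),
          inv_eq_of_mul_eq_one_right (toBigGen_sq y)]
      rw [e, inv_pow, this, inv_one]
  · have hm : FreeGroup.lift toBigGen r ∈ extra.map (FreeGroup.lift toBigGen) := List.mem_map_of_mem hr
    rw [show extra.map (FreeGroup.lift toBigGen) = exW.map (prodw (toBigGen ∘ en)) from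
      setup.exW_eq _ toBigGen toBigGen_sq] at hm
    obtain ⟨w, hw, hw'⟩ := List.mem_map.1 hm
    rw [← hw']
    exact word_one (List.mem_append_right _ hw)

/-- `J₂` inside `G₂(4)`. -/
def toBig : Grp →* Big := PresentedGroup.toGroup toBig_rels

theorem toBig_g {x : ℕ} (hx : x < 5) : toBig (setup.g x) = CfsgLib.SuzG2.setup.g x := by
  refine (PresentedGroup.toGroup.of _).trans ?_
  interval_cases x <;> rfl

theorem toBig_prodw {w : List ℕ} (h : ∀ x ∈ w, x < 5) :
    toBig (prodw setup.g w) = prodw CfsgLib.SuzG2.setup.g w := by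
  simp only [prodw, map_list_prod, List.map_map]
  exact congrArg List.prod (List.map_congr_left fun x hx => toBig_g (h x hx))

theorem grp_eq_closure : Subgroup.closure (setup.g '' {x | x < 5}) = ⊤ := by
  rw [← setup.letSub_all (List.range 5) (fun x hx => List.mem_range.mpr hx)]
  unfold Setup.letSub
  congr 1
  ext y
  exact ⟨fun ⟨x, hx, e⟩ => ⟨x, List.mem_range.2 hx, e.symm⟩, fun ⟨x, hx, e⟩ => ⟨x, List.mem_range.1 hx, e.symm⟩⟩

theorem g_inv (x : ℕ) : (setup.g x)⁻¹ = setup.g x :=
  inv_eq_of_mul_eq_one_right (setup.of_sq _)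

/-- The permutation of a table that is an involution. -/
def tabPerm (n : ℕ) (U : ℕ) (h : ∀ i : Fin n, ext U i < n ∧ ext U (ext U i) = i) : Equiv.Perm (Fin n) :=
  ⟨fun i => ⟨ext U i, (h i).1⟩, fun i => ⟨ext U i, (h i).1⟩, fun i => Fin.ext (h i).2, fun i => Fin.ext (h i).2⟩

/-- The checks on the tables of a constituent. -/
def goodTabs (n : ℕ) (P : ℕ) (U : ℕ → ℕ) (d : ℕ) : Bool :=
  allR (validEntry n 5 U id) d 0 &&
    (List.range 5).all (fun x => allR (Restrict.conjTabEntry n P (CfsgLib.SuzG2.G4E.tb x) (U x)) d 0)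

/-- The point stabilisers of the action on a table of points are maximal. -/
theorem isCoatom_stab {n : ℕ} [NeZero n] {P IP : ℕ} {U : ℕ → ℕ} {d dT T : ℕ} (hd : n ≤ 2 ^ d)
    (hn : 1 < n)
    (hP : allR (Restrict.leftInvEntry LE.enum.n n P IP) d 0 = true)
    (hU : goodTabs n P U d = true)
    (hT : reach U (fun s => if s < 5 then [s] else []) dT T 0 = 2 ^ n - 1)
    (W : List (List ℕ)) (hW : W.all (fun w => w.all (fun x => Nat.blt x 5) && Nat.beq (walk U w 0) 0) = true)
    (Rs : List ℕ)
    (hRs : ∀ o (ho : o < Rs.length), ∃ i0 dR steps, i0 < n ∧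
      reach U (fun s => W.getD s []) dR steps i0 = Rs[o])
    (hcover : allR (fun i => bif Nat.blt i n then memberOf Rs (2 ^ Rs.length - 1) i else true) d 0 = true)
    (hblock : (List.range (2 ^ Rs.length)).all (fun m => noBlock n d Rs m) = true)
    (φ : Big →* Equiv.Perm (Fin LE.enum.n))
    (hφ : ∀ (w : List ℕ), (∀ x ∈ w, x < CfsgLib.SuzG2.setup.k) → ∀ i : Fin LE.enum.n,
      ((φ (prodw CfsgLib.SuzG2.setup.g w))⁻¹ i).val = walk LE.enum.tb w i)
    (j : Fin LE.enum.n) (hj : ∃ k : Fin n, ext P k = j) :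
    ∃ K : Subgroup Grp, IsCoatom K ∧ ∀ g, g ∈ K ↔ φ (toBig g) j = j := by
  have hlab := Restrict.relabel_lt (n := LE.enum.n) hd hP
  let ι : Fin n → Fin LE.enum.n := fun i => ⟨ext P i, (hlab i).1⟩
  have hι : Function.Injective ι := fun a b hab => Fin.ext (by
    rw [← (hlab a).2, ← (hlab b).2, show ext P a = ext P b from congrArg Fin.val hab])
  simp only [goodTabs, Bool.and_eq_true] at hU
  obtain ⟨hv, hconj⟩ := hU
  have hUi : ∀ x, x < 5 → ∀ i : Fin n, ext (U x) i < n ∧ ext (U x) (ext (U x) i) = i := by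
    intro x hx i
    have h1 := allR_spec d 0 hv i (Nat.zero_le _) (by omega)
    unfold validEntry at h1
    rw [show Nat.blt i.val n = true by simp] at h1
    simp only [cond_true] at h1
    have h2 := allR_spec 4 0 h1 x (Nat.zero_le _) (by show x < 0 + 2 ^ 4; omega)
    rw [show Nat.blt x 5 = true by simpa using hx] at h2
    simp only [cond_true, Bool.and_eq_true, Nat.blt_eq, Nat.beq_eq] at h2
    exact h2
  have hgen : ∀ x (hx : x < 5) (i : Fin n),
      φ (toBig (setup.g x)) (ι i) = ι (tabPerm n (U x) (hUi x hx) i) := by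
    intro x hx i
    have e := hφ [x] (fun y hy => by rw [List.mem_singleton.1 hy]; show x < 6; omega) (ι i)
    rw [show prodw CfsgLib.SuzG2.setup.g [x] = CfsgLib.SuzG2.setup.g x by simp [prodw], ← toBig_g hx,
      ← map_inv, ← map_inv, g_inv] at e
    refine Fin.ext (e.trans ?_)
    exact Restrict.conjTab_spec hd (List.all_eq_true.1 hconj x (List.mem_range.2 hx)) i
  have hstab : ∀ g : Grp, toBig g ∈ Restrict.stab φ ι := by
    suffices h : (⊤ : Subgroup Grp) ≤ (Restrict.stab φ ι).comap toBig from fun g => h (Subgroup.mem_top g)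
    rw [← grp_eq_closure]
    refine (Subgroup.closure_le _).2 ?_
    rintro _ ⟨x, hx, rfl⟩
    exact ⟨_, hgen x hx⟩
  let φY : Grp →* Equiv.Perm (Fin n) := (Restrict.res hι).comp (toBig.codRestrict _ hstab)
  have hspec : ∀ g i, φ (toBig g) (ι i) = ι (φY g i) := fun g i =>
    Restrict.res_spec hι (⟨toBig g, hstab g⟩ : Restrict.stab φ ι) i
  have hwalk : ∀ w : List ℕ, (∀ x ∈ w, x < 5) → ∀ i : Fin n,
      ((φY (prodw setup.g w))⁻¹ i).val = walk U w i := by
    intro w
    induction w with
    | nil =>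
      intro _ i
      simp only [prodw_nil, map_one, inv_one, Equiv.Perm.one_apply]
      rfl
    | cons x w ih =>
      intro hw i
      have hx : x < 5 := hw x List.mem_cons_self
      rw [prodw_cons, map_mul, mul_inv_rev, Equiv.Perm.mul_apply, ih fun y hy => hw y (List.mem_cons_of_mem x hy)]
      show walk U w _ = walk U w (CosetEnum.T U x i)
      congr 1
      rw [← map_inv, g_inv, show φY (setup.g x) = tabPerm n (U x) (hUi x hx) from
        Restrict.res_eq hι (⟨toBig (setup.g x), hstab _⟩ : Restrict.stab φ ι) (hgen x hx)]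
      rfl
  have htrans : ∀ i : Fin n, ∃ y, φY y 0 = i := by
    intro i
    have hbit : bit (2 ^ n - 1) i.val = true := by
      rw [bit_eq, Nat.testBit_two_pow_sub_one]
      simp
    obtain ⟨h, -, hh⟩ := reach_mem (φ := φY) (H := ⊤) (fun s => if s < 5 then [s] else []) 5 setup.g
      (fun s _ => Subgroup.mem_top _)
      (fun s hs i => by
        rw [if_pos hs, show setup.g s = prodw setup.g [s] by simp [prodw]]
        exact hwalk [s] (fun y hy => by rw [List.mem_singleton.1 hy]; exact hs) i)
      (fun s hs => if_neg (Nat.not_lt.2 hs)) (0 : Fin n) (by simpa using hT) i.val hbit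
    exact ⟨h⁻¹, by rw [map_inv]; exact Fin.ext hh⟩
  let S0 : Subgroup Grp := (MulAction.stabilizer (Equiv.Perm (Fin n)) (0 : Fin n)).comap φY
  have hS0 : ∀ y, y ∈ S0 ↔ φY y 0 = 0 := fun y => Iff.rfl
  let F : Grp ⧸ S0 → Fin n := fun q => Quotient.liftOn' q (fun y => φY y 0) fun a b hab => by
    rw [QuotientGroup.leftRel_apply, hS0, map_mul, map_inv, Equiv.Perm.mul_apply,
      Equiv.Perm.inv_eq_iff_eq] at hab
    exact hab.symm
  have hF : Function.Bijective F := by
    refine ⟨fun q r hqr => ?_, fun i => ?_⟩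
    · induction q using QuotientGroup.induction_on with
      | H y =>
        induction r using QuotientGroup.induction_on with
        | H z =>
          rw [QuotientGroup.eq, hS0, map_mul, map_inv, Equiv.Perm.mul_apply, Equiv.Perm.inv_eq_iff_eq]
          exact (show φY y 0 = φY z 0 from hqr).symm
    · obtain ⟨y, hy⟩ := htrans i
      exact ⟨(y : Grp ⧸ S0), hy⟩
  have hco : IsCoatom S0 := by
    refine ⟨fun htop => ?_, fun K hK => ?_⟩
    · obtain ⟨y, hy⟩ := htrans ⟨1, hn⟩
      have : φY y 0 = 0 := (hS0 y).1 (htop ▸ Subgroup.mem_top y)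
      rw [this] at hy
      exact absurd (congrArg Fin.val hy) (by simp)
    refine (eq_or_eq_top_of_le φY (Equiv.ofBijective F hF) (fun y q => ?_) (by
        show φY 1 0 = 0
        simp) Rs ?_ hd hcover (fun m hm => List.all_eq_true.1 hblock m (List.mem_range.2 hm)) hK.le).resolve_left
      hK.ne'
    · induction q using QuotientGroup.induction_on with
      | H z =>
        show φY (y * z) 0 = φY y (φY z 0)
        rw [map_mul, Equiv.Perm.mul_apply]
    intro o ho
    obtain ⟨i0, dR, steps, hi0, hR⟩ := hRs o ho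
    have hWlt : ∀ s, s < W.length →
        (∀ x ∈ W.getD s [], x < 5) ∧ walk U (W.getD s []) 0 = 0 := by
      intro s hs
      have h := List.all_eq_true.1 hW _ (List.getElem_mem hs)
      simp only [Bool.and_eq_true, List.all_eq_true, Nat.blt_eq, Nat.beq_eq] at h
      rwa [List.getD_eq_getElem _ _ hs]
    refine ⟨⟨i0, hi0⟩, reach_mem (φ := φY) (H := S0) (fun s => W.getD s []) W.length
      (fun s => prodw setup.g (W.getD s [])) (fun s hs => ?_) (fun s hs => hwalk _ (hWlt s hs).1)
      (fun s hs => List.getD_eq_default _ _ hs) (⟨i0, hi0⟩ : Fin n) hR⟩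
    rw [← inv_mem_iff, hS0, map_inv]
    exact Fin.ext ((hwalk _ (hWlt s hs).1 0).trans (by simpa using (hWlt s hs).2))
  obtain ⟨k, hk⟩ := hj
  obtain ⟨y, hy⟩ := htrans k
  refine ⟨(MulAut.conj y).mapSubgroup S0, (OrderIso.isCoatom_iff _ S0).2 hco, fun g => ?_⟩
  rw [show j = ι k from Fin.ext hk.symm, hspec, hι.eq_iff]
  show g ∈ S0.map (MulAut.conj y).toMonoidHom ↔ _
  rw [Subgroup.mem_map_equiv, hS0, MulAut.conj_symm_apply, map_mul, map_mul, map_inv,
    Equiv.Perm.mul_apply, Equiv.Perm.mul_apply, hy, Equiv.Perm.inv_eq_iff_eq, hy]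

end

end CfsgLib.J2Model
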